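import Cfsg.Agent.Lib.GW.Residual
import Cfsg.Agent.Lib.OddChar.OddTheorem
import Cfsg.Agent.Lib.ClosedAbelian.Basic
import Cfsg.Agent.Lib.HalfClasses.Count
import Cfsg.Agent.Lib.SEBrick.Basic

/-!
The perfect part of a subgroup, bounds on its 2-subgroups, and coprime tools, for the centraliser of a
strongly closed 2-subgroup.
-/

set_option autoImplicit false
set_option linter.unusedSectionVars false
set_option linter.style.haveILetI false

namespace Cfsg.Agent.ClosedCent

open Subgroup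
open Cfsg.Agent.ClosedAbelian (core core_le core_odd core_normalized le_core)
open scoped commutatorElement

universe u v

variable {G : Type u} [Group G] {H' : Type v} [Group H']

/-- The last term of the derived series of a subgroup, inside the ambient group. -/
def per (H : Subgroup G) : Subgroup G := (GW.res ↥H).map H.subtype

theorem per_le (H : Subgroup G) : per H ≤ H := map_subtype_le _

/-- A perfect subgroup of an image lies in the image of the perfect part. -/
theorem perfect_le_map [Finite G] (f : G →* H') (K : Subgroup G) {Y : Subgroup H'} (hY : ⁅Y, Y⁆ = Y)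
    (hle : Y ≤ K.map f) : Y ≤ (per K).map f := by
  obtain ⟨n, hn, -⟩ := GW.exists_res_eq (X := K)
  rw [per, ← hn]
  clear hn
  induction n with
  | zero => rwa [derivedSeries_zero, ← MonoidHom.range_eq_map, range_subtype]
  | succ n ih =>
    rw [derivedSeries_succ, map_commutator, map_commutator]
    exact hY.ge.trans (commutator_mono ih ih)

theorem le_per [Finite G] {Y H : Subgroup G} (hY : ⁅Y, Y⁆ = Y) (h : Y ≤ H) : Y ≤ per H := by
  simpa using perfect_le_map (MonoidHom.id G) H hY (by simpa using h)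

theorem perfect_map {Y : Subgroup G} (hY : ⁅Y, Y⁆ = Y) (f : G →* H') : ⁅Y.map f, Y.map f⁆ = Y.map f := by
  rw [← map_commutator, hY]

/-- A homomorphism into a solvable group kills a perfect group. -/
theorem eq_one_of_perfect {X : Type v} [Group X] [Group.IsSolvable H'] (hX : ⁅(⊤ : Subgroup X), (⊤ : Subgroup X)⁆ = ⊤)
    (f : X →* H') (x : X) : f x = 1 := by
  obtain ⟨n, hn⟩ := (Group.isSolvable_def H').1 inferInstance
  have h : ∀ k, (⊤ : Subgroup X).map f ≤ derivedSeries H' k := by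
    intro k
    induction k with
    | zero => exact le_top
    | succ k ih =>
      rw [derivedSeries_succ]
      conv_lhs => rw [← hX, map_commutator]
      exact commutator_mono ih ih
  exact mem_bot.1 (hn ▸ h n ⟨x, trivial, rfl⟩)

theorem perfect_top {Y : Subgroup G} (hY : ⁅Y, Y⁆ = Y) : ⁅(⊤ : Subgroup Y), (⊤ : Subgroup Y)⁆ = ⊤ := by
  refine map_injective Y.subtype_injective ?_
  rw [map_commutator, ← MonoidHom.range_eq_map, range_subtype, hY]

/-- A perfect subgroup of a solvable group is trivial. -/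
theorem eq_bot_of_solvable {Y : Subgroup G} (hY : ⁅Y, Y⁆ = Y) [Group.IsSolvable Y] : Y = ⊥ :=
  (eq_bot_iff_forall Y).2 fun y hy =>
    congrArg Subtype.val (eq_one_of_perfect (perfect_top hY) (MonoidHom.id Y) ⟨y, hy⟩)

/-- The 2-subgroups of `H` have order at most `n`. -/
def Bnd (n : ℕ) (H : Subgroup G) : Prop := ∀ Q ≤ H, IsPGroup 2 Q → Nat.card Q ≤ n

variable [Finite G]

theorem solvable_of_odd {X : Type u} [Group X] [Finite X] (h : Odd (Nat.card X)) : Group.IsSolvable X :=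
  OddChar.oddSolvable X h

/-- A perfect subgroup of odd order is trivial. -/
theorem eq_bot_of_odd {Y : Subgroup G} (hY : ⁅Y, Y⁆ = Y) (h : Odd (Nat.card Y)) : Y = ⊥ :=
  haveI := solvable_of_odd h
  eq_bot_of_solvable hY

theorem perfect_per (H : Subgroup G) : ⁅per H, per H⁆ = per H := by
  rw [per, ← map_commutator, GW.res_commutator]

theorem per_mono {H K : Subgroup G} (h : H ≤ K) : per H ≤ per K := le_per (perfect_per H) ((per_le H).trans h)

theorem map_per_le {X : Type v} [Group X] [Finite X] {f : X →* G} {H : Subgroup X} {K : Subgroup G}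
    (h : H.map f ≤ K) : (per H).map f ≤ per K :=
  le_per (perfect_map (perfect_per H) f) ((map_mono (per_le H)).trans h)

theorem normalizer_le_per (H : Subgroup G) : normalizer (H : Set G) ≤ normalizer (per H : Set G) :=
  fun g hg => by
    rw [← LEBasic.map_conj_eq_iff_mem_normalizer]
    exact eq_of_le_of_card_ge (map_per_le (LEBasic.map_conj_eq_iff_mem_normalizer.2 hg).le)
      (LEBasic.card_map_conj _ g).ge

/-- The product of a normalised subgroup and a normalising one. -/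
theorem exists_mul {N K : Subgroup G} (hn : K ≤ normalizer (N : Set G)) {x : G} (hx : x ∈ N ⊔ K) :
    ∃ n ∈ N, ∃ k ∈ K, n * k = x := by
  rw [← SetLike.mem_coe, coe_mul_of_right_le_normalizer_left N K hn] at hx
  exact Set.mem_mul.1 hx

/-- The product in the other order. -/
theorem exists_mul_left {N K : Subgroup G} (hn : K ≤ normalizer (N : Set G)) {x : G} (hx : x ∈ K ⊔ N) :
    ∃ k ∈ K, ∃ n ∈ N, k * n = x := by
  rw [← SetLike.mem_coe, coe_mul_of_left_le_normalizer_right K N hn] at hx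
  exact Set.mem_mul.1 hx

/-- A perfect subgroup modulo a normalised subgroup. -/
theorem perfect_le_sup {Y O K : Subgroup G} (hY : ⁅Y, Y⁆ = Y) (hK : K ≤ normalizer (O : Set G))
    (h : Y ≤ O ⊔ K) : Y ≤ O ⊔ per K := by
  set J := O ⊔ K
  have hJ : J ≤ normalizer (O : Set G) := sup_le le_normalizer hK
  haveI : (O.subgroupOf J).Normal := normal_subgroupOf_of_le_normalizer hJ
  set π := QuotientGroup.mk' (O.subgroupOf J)
  have hYJ : ⁅Y.subgroupOf J, Y.subgroupOf J⁆ = Y.subgroupOf J := by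
    refine map_injective J.subtype_injective ?_
    rw [map_commutator, map_subgroupOf_eq_of_le h, hY]
  have hle : (Y.subgroupOf J).map π ≤ (K.subgroupOf J).map π := by
    rintro _ ⟨y, -, rfl⟩
    obtain ⟨o, ho, k, hk, hok⟩ := exists_mul hK y.2
    refine ⟨⟨k, mem_sup_right hk⟩, hk, ?_⟩
    rw [show y = (⟨o, mem_sup_left ho⟩ : J) * ⟨k, mem_sup_right hk⟩ from Subtype.ext hok.symm, map_mul,
      show π ⟨o, mem_sup_left ho⟩ = 1 from (QuotientGroup.eq_one_iff _).2 ho, one_mul]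
  have h1 := perfect_le_map π (K.subgroupOf J) (perfect_map hYJ π) hle
  intro y hy
  obtain ⟨k, hk, hke⟩ := h1 ⟨⟨y, h hy⟩, hy, rfl⟩
  have hko : (⟨y, h hy⟩ : J) * k⁻¹ ∈ O.subgroupOf J := by
    rw [← QuotientGroup.eq_one_iff]
    show π (_ * k⁻¹) = 1
    rw [map_mul, map_inv, hke, mul_inv_cancel]
  have hkp : (k : G) ∈ per K := by
    have := map_per_le (f := J.subtype) (H := K.subgroupOf J) (K := K) (map_comap_le _ _)
    exact this ⟨k, hk, rfl⟩
  rw [show y = y * (k : G)⁻¹ * k by group]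
  exact mul_mem (mem_sup_left hko) (mem_sup_right hkp)

/-- A perfect group is generated by its 2-elements. -/
theorem le_of_twoEl {Y C : Subgroup G} (hY : ⁅Y, Y⁆ = Y) (h : ∀ y ∈ Y, ClosedAbelian.TwoEl y → y ∈ C) : Y ≤ C := by
  haveI : Fact (Nat.Prime 2) := ⟨Nat.prime_two⟩
  set D : Subgroup Y := closure {y | ClosedAbelian.TwoEl y}
  haveI : D.Normal := normalizer_eq_top_iff.1 (eq_top_iff.2 fun g _ => mem_normalizer_fintype fun x hx => by
    have hle : D ≤ D.comap (MulAut.conj g).toMonoidHom :=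
      (closure_le _).2 fun y (hy : ClosedAbelian.TwoEl y) => subset_closure (hy.conj g)
    exact hle hx)
  have hodd : Odd (Nat.card (Y ⧸ D)) := by
    refine Nat.not_even_iff_odd.1 fun he => ?_
    obtain ⟨q, hq⟩ := exists_prime_orderOf_dvd_card' 2 he.two_dvd
    obtain ⟨y, rfl⟩ := QuotientGroup.mk'_surjective D q
    obtain ⟨u, v, huv, -, -, hu, hv⟩ := ClosedAbelian.exists_parts y
    rw [← huv, map_mul, show QuotientGroup.mk' D u = 1 from (QuotientGroup.eq_one_iff u).2 (subset_closure hu),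
      one_mul] at hq
    have h2 : orderOf (QuotientGroup.mk' D v) ∣ orderOf v := orderOf_map_dvd _ v
    rw [hq] at h2
    exact Nat.not_even_iff_odd.2 hv (even_iff_two_dvd.2 h2)
  haveI := solvable_of_odd hodd
  intro y hy
  have hle : D ≤ C.comap Y.subtype := (closure_le _).2 fun z (hz : ClosedAbelian.TwoEl z) => by
    obtain ⟨k, hk⟩ := hz
    exact h z z.2 ⟨k, by rw [← SubgroupClass.coe_pow, hk, OneMemClass.coe_one]⟩
  exact hle ((QuotientGroup.eq_one_iff (⟨y, hy⟩ : Y)).1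
    (eq_one_of_perfect (perfect_top hY) (QuotientGroup.mk' D) ⟨y, hy⟩))

theorem odd_of_not_dvd {n : ℕ} (h : ¬ 2 ∣ n) : Odd n := Nat.not_even_iff_odd.1 fun he => h he.two_dvd

/-- A bound passes through an odd normalised subgroup. -/
theorem Bnd.sup {n : ℕ} {O K : Subgroup G} (hB : Bnd n K) (hO : ¬ 2 ∣ Nat.card O)
    (hK : K ≤ normalizer (O : Set G)) : Bnd n (O ⊔ K) := by
  intro Q hQ hQ2
  haveI : Fact (Nat.Prime 2) := ⟨Nat.prime_two⟩
  obtain ⟨k, hk⟩ := IsPGroup.iff_card.1 hQ2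
  have hd : Nat.card ↥(O ⊔ K) ∣ Nat.card O * Nat.card K := by
    haveI : (O.subgroupOf (O ⊔ K)).Normal :=
      normal_subgroupOf_of_le_normalizer (sup_le le_normalizer hK)
    have h1 := (O.subgroupOf (O ⊔ K)).card_mul_index
    rw [Nat.card_congr (subgroupOfEquivOfLe le_sup_left).toEquiv] at h1
    rw [← h1]
    refine mul_dvd_mul_left _ ?_
    have h2 : ((K.subgroupOf (O ⊔ K)).map (QuotientGroup.mk' (O.subgroupOf (O ⊔ K)))) = ⊤ := by
      refine eq_top_iff.2 fun q _ => ?_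
      obtain ⟨⟨y, hy⟩, rfl⟩ := QuotientGroup.mk'_surjective _ q
      obtain ⟨o, ho, c, hc, rfl⟩ := exists_mul hK hy
      refine ⟨⟨c, mem_sup_right hc⟩, hc, ?_⟩
      rw [show (⟨o * c, hy⟩ : ↥(O ⊔ K)) = ⟨o, mem_sup_left ho⟩ * ⟨c, mem_sup_right hc⟩ from rfl, map_mul,
        show QuotientGroup.mk' (O.subgroupOf (O ⊔ K)) ⟨o, mem_sup_left ho⟩ = 1 from
          (QuotientGroup.eq_one_iff _).2 ho, one_mul]
    rw [index, ← card_top (G := ↥(O ⊔ K) ⧸ O.subgroupOf (O ⊔ K)), ← h2,
      ← Nat.card_congr (subgroupOfEquivOfLe (le_sup_right : K ≤ O ⊔ K)).toEquiv]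
    exact card_map_dvd _ _
  have hdvd : 2 ^ k ∣ Nat.card K :=
    ((Nat.coprime_two_left.2 (odd_of_not_dvd hO)).pow_left k).dvd_of_dvd_mul_left
      (hk ▸ (card_dvd_of_le hQ).trans hd)
  obtain ⟨Q', hQ'⟩ := Sylow.exists_subgroup_card_pow_prime 2 hdvd
  rw [hk, ← hQ', ← card_subtype K Q']
  exact hB _ (map_subtype_le _) ((IsPGroup.of_card hQ').map _)

theorem Bnd.mono {n : ℕ} {H K : Subgroup G} (hB : Bnd n K) (h : H ≤ K) : Bnd n H :=
  fun Q hQ => hB Q (hQ.trans h)

/-- An element centralising a 2-group modulo an odd subgroup. -/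
theorem mem_sup_centralizer {H O B : Subgroup G} (hOH : O ≤ H) (hO : ¬ 2 ∣ Nat.card O) (hB : IsPGroup 2 B)
    (hBO : B ≤ normalizer (O : Set G)) {x : G} (hx : x ∈ H) (h : ∀ b ∈ B, ⁅x, b⁆ ∈ O) :
    x ∈ O ⊔ H ⊓ centralizer (B : Set G) := by
  haveI : Fact (Nat.Prime 2) := ⟨Nat.prime_two⟩
  have hBx : B.map (MulAut.conj x).toMonoidHom ≤ O ⊔ B := by
    rintro _ ⟨b, hb, rfl⟩
    show x * b * x⁻¹ ∈ O ⊔ B
    rw [show x * b * x⁻¹ = ⁅x, b⁆ * b by simp [commutatorElement_def, mul_assoc]]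
    exact mul_mem (mem_sup_left (h b hb)) (mem_sup_right hb)
  obtain ⟨c, hc, T, hT, hBT, hTle, hcT⟩ :=
    ClosedAbelian.exists_conj_over hB le_sup_right (hB.map (MulAut.conj x).toMonoidHom) hBx
  have hTB : T = B := by
    have hb : Bnd (Nat.card B) (O ⊔ B) :=
      Bnd.sup (fun Q hQ _ => card_le_of_le hQ) hO hBO
    exact (eq_of_le_of_card_ge hBT (hb T hTle hT)).symm
  rw [hTB] at hcT
  rw [sup_comm] at hc
  obtain ⟨b₀, hb₀, o, ho, rfl⟩ := exists_mul_left hBO hc
  set w := o * x with hw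
  have hwB : ∀ b ∈ B, w * b * w⁻¹ ∈ B := fun b hb => by
    have h1 := hcT (x * b * x⁻¹) ⟨b, hb, rfl⟩
    have h2 := mul_mem (mul_mem (inv_mem hb₀) h1) hb₀
    rwa [show b₀⁻¹ * (b₀ * o * (x * b * x⁻¹) * (b₀ * o)⁻¹) * b₀ = w * b * w⁻¹ by rw [hw]; group] at h2
  have hwc : w ∈ centralizer (B : Set G) := mem_centralizer_iff.2 fun b hb => by
    have hin : ⁅w, b⁆ ∈ O ⊓ B := mem_inf.2 ⟨?_, mul_mem (hwB b hb) (inv_mem hb)⟩
    · rw [show O ⊓ B = ⊥ from (disjoint_of_coprime_natCard ?_).eq_bot, mem_bot] at hin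
      · exact (commutatorElement_eq_one_iff_mul_comm.1 hin).symm
      · obtain ⟨j, hj⟩ := IsPGroup.iff_card.1 hB
        rw [hj]
        exact ((Nat.coprime_two_left.2 (odd_of_not_dvd hO)).pow_left j).symm
    rw [show ⁅w, b⁆ = o * ⁅x, b⁆ * o⁻¹ * (o * (b * o⁻¹ * b⁻¹)) by
      simp only [hw, commutatorElement_def]; group]
    exact mul_mem (mul_mem (mul_mem ho (h b hb)) (inv_mem ho))
      (mul_mem ho ((mem_normalizer_iff.1 (hBO hb) _).1 (inv_mem ho)))
  rw [show x = o⁻¹ * w by rw [hw]; group]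
  exact mul_mem (mem_sup_left (inv_mem ho)) (mem_sup_right (mem_inf.2 ⟨mul_mem (hOH ho) hx, hwc⟩))

/-- A normal subgroup with odd powers in a central 2-subgroup. -/
theorem le_sup_core {X : Type u} [Group X] [Finite X] {W Z : Subgroup X} [W.Normal] (hZ : IsPGroup 2 Z)
    (hZc : Z ≤ center X) (hw : ∀ w ∈ W, ∃ n, Odd n ∧ w ^ n ∈ Z) : W ≤ Cfsg.oddCore X ⊔ Z := by
  haveI : (Cfsg.oddCore X).Normal := FittingCores.pPrimeCore_normal 2
  set π := QuotientGroup.mk' (Cfsg.oddCore X)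
  set Z' := Z.map π
  have hZ'c : Z' ≤ center (X ⧸ Cfsg.oddCore X) := by
    rintro _ ⟨z, hz, rfl⟩
    refine mem_center_iff.2 fun g => ?_
    obtain ⟨g, rfl⟩ := QuotientGroup.mk'_surjective _ g
    rw [← map_mul, ← map_mul, mem_center_iff.1 (hZc hz) g]
  haveI : Z'.Normal := ⟨fun n hn g => by
    rwa [mem_center_iff.1 (hZ'c hn) g, mul_inv_cancel_right]⟩
  have hbot := HalfClasses.core_quotient_bot (PBasic.pPrimeCore_quotient_pPrimeCore 2 X) Z' (hZ.map π) hZ'c
  haveI : (W.map π).Normal := Subgroup.Normal.map inferInstance π (QuotientGroup.mk'_surjective _)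
  set ρ := QuotientGroup.mk' Z'
  haveI : ((W.map π).map ρ).Normal := Subgroup.Normal.map inferInstance ρ (QuotientGroup.mk'_surjective _)
  have hodd : Odd (Nat.card ↥((W.map π).map ρ)) := by
    refine Nat.not_even_iff_odd.1 fun he => ?_
    obtain ⟨t, htW, ht⟩ := Invol.exists_invol he
    obtain ⟨_, ⟨w, hwW, rfl⟩, rfl⟩ := htW
    obtain ⟨n, hn, hwn⟩ := hw w hwW
    have h1 : (ρ (π w)) ^ n = 1 := by
      rw [← map_pow, ← map_pow]
      exact (QuotientGroup.eq_one_iff _).2 ⟨_, hwn, rfl⟩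
    have h2 : orderOf (ρ (π w)) ∣ n := orderOf_dvd_of_pow_eq_one h1
    rw [ht] at h2
    exact (Nat.not_even_iff_odd.2 hn) (even_iff_two_dvd.2 h2)
  have hle := SEBrick.le_oddCore inferInstance hodd
  rw [show Cfsg.oddCore _ = ⊥ from hbot, le_bot_iff, Subgroup.map_eq_bot_iff, QuotientGroup.ker_mk'] at hle
  intro w hwW
  obtain ⟨z, hz, hzw⟩ := hle ⟨w, hwW, rfl⟩
  rw [show w = w * z⁻¹ * z by group]
  refine mul_mem (mem_sup_left ?_) (mem_sup_right hz)
  rw [← QuotientGroup.eq_one_iff]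
  show π (w * z⁻¹) = 1
  rw [map_mul, map_inv, hzw, mul_inv_cancel]

theorem le_of_core_bot {X : Type u} [Group X] [Finite X] (hO : Cfsg.oddCore X = ⊥) {W Z : Subgroup X} [W.Normal]
    (hZ : IsPGroup 2 Z) (hZc : Z ≤ center X) (hw : ∀ w ∈ W, ∃ n, Odd n ∧ w ^ n ∈ Z) : W ≤ Z := by
  simpa [hO] using le_sup_core hZ hZc hw

end Cfsg.Agent.ClosedCent
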