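import Cfsg.Agent.Lib.ClosedCent.Kill

/-!
The perfect part of the centraliser of a centric subgroup of fused elements is no larger than that of `T`,
and the resulting local overgroup of the latter.
-/

set_option autoImplicit false
set_option linter.unusedSectionVars false
set_option linter.style.haveILetI false

namespace Cfsg.Agent.ClosedCent

open Subgroup Cfsg.Agent.SylowSplit
open Cfsg.Agent.ClosedAbelian (core core_le core_odd core_normalized normalizer_le_normalizer_core)
open scoped commutatorElement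

universe u

variable {G : Type u} [Group G] [Finite G] {S : Sylow 2 G} {T : Subgroup G}

/-- A 2-group of fused elements which cannot be enlarged by a fused element centralising it. -/
structure Centric (T A : Subgroup G) : Prop where
  two : IsPGroup 2 A
  fused : ∀ a ∈ A, InR T a
  closed : ∀ y : G, InR T y → y ∈ centralizer (A : Set G) → IsPGroup 2 ↥(A ⊔ zpowers y) → y ∈ A

theorem le_centralizer_sup {H A B : Subgroup G} (hA : H ≤ centralizer (A : Set G)) (hB : H ≤ centralizer (B : Set G)) :
    H ≤ centralizer ((A ⊔ B : Subgroup G) : Set G) :=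
  le_centralizer_iff.2 (sup_le (le_centralizer_iff.1 hA) (le_centralizer_iff.1 hB))

/-- The bound at a centric subgroup. -/
theorem climb (hcp : CommPair.Stmt.{u}) (hT : Cfsg.IsStronglyClosed T (S : Subgroup G)) {n : ℕ}
    (hbase : Bnd n (per (centralizer (T : Set G)))) {A : Subgroup G} (hA : Centric T A) :
    Bnd n (per (centralizer (A : Set G))) := by
  haveI : Fact (Nat.Prime 2) := ⟨Nat.prime_two⟩
  induction hm : Nat.card T - Nat.card A using Nat.strong_induction_on generalizing A with
  | _ m ih =>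
  obtain ⟨g, hg⟩ := exists_map_le hT hA.two hA.fused
  by_cases he : A.map (MulAut.conj g).toMonoidHom = T
  · intro Q hQ hQ2
    rw [← LEBasic.card_map_conj Q g]
    refine hbase _ ((map_mono hQ).trans (map_per_le ?_)) (hQ2.map _)
    rintro _ ⟨z, hz, rfl⟩
    refine mem_centralizer_iff.2 fun t ht => ?_
    rw [← he] at ht
    obtain ⟨a, ha, rfl⟩ := ht
    exact ((show Commute a z from mem_centralizer_iff.1 hz a ha).map _).eq
  set T' := T.map (MulAut.conj g⁻¹).toMonoidHom with hT'
  have hT2 : IsPGroup 2 T' := (S.isPGroup'.to_le hT.1).map _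
  have hAT' : A ≤ T' := fun a ha => ⟨g * a * g⁻¹, hg ⟨a, ha, rfl⟩, by simp [mul_assoc]⟩
  have hlt : A.subgroupOf T' < ⊤ := lt_top_iff_ne_top.2 fun e => he (by
    rw [subgroupOf_eq_top] at e
    refine eq_of_le_of_card_ge hg ?_
    rw [LEBasic.card_map_conj, ← LEBasic.card_map_conj T g⁻¹]
    exact card_le_of_le e)
  haveI : Group.IsNilpotent T' := hT2.isNilpotent
  obtain ⟨x, hx, hxA⟩ := SetLike.exists_of_lt (Group.normalizerCondition_of_isNilpotent _ hlt)
  set N := normalizer (A : Set G)
  have hAN : A ≤ N := le_normalizer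
  have hxN : (x : G) ∈ N := mem_normalizer_fintype fun a ha => by
    have h1 := (mem_normalizer_iff.1 hx ⟨a, hAT' ha⟩).1 (mem_subgroupOf.2 ha)
    simpa [mem_subgroupOf] using h1
  have hQ₀ : IsPGroup 2 ↥(A ⊔ zpowers (x : G)) := hT2.to_le (sup_le hAT' (zpowers_le.2 x.2))
  obtain ⟨Q, hQ⟩ := (hQ₀.comap_subtype (K := N)).exists_le_sylow
  set R := (Q : Subgroup N).map N.subtype
  have hR : IsPGroup 2 R := Q.2.map _
  have hle : A ⊔ zpowers (x : G) ≤ R := fun y hy =>
    ⟨⟨y, (sup_le hAN (zpowers_le.2 hxN)) hy⟩, hQ (mem_subgroupOf.2 hy), rfl⟩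
  set B := fusedIn hT hR
  have hP : Part T N B := Part.of_sylow hT hR (map_subtype_le _) fun Q' hQ'N hQ' => by
    obtain ⟨c, hc, hcle⟩ := LESylow.exists_conj_le_of_le hQ'N hQ' Q
    exact ⟨c, hc, fun q hq => hcle ⟨q, hq, rfl⟩⟩
  have hAB : A ≤ B := fun a ha => ⟨hle (mem_sup_left ha), hA.fused a ha⟩
  have hxB : (x : G) ∈ B := by
    obtain ⟨t, ht, hte⟩ := (x.2 : (x : G) ∈ T')
    exact ⟨hle (mem_sup_right (mem_zpowers _)), hte ▸ (InR.of_mem ht).conj g⁻¹⟩
  have hcard : Nat.card A < Nat.card B := by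
    refine lt_of_le_of_ne (card_le_of_le hAB) fun e => hxA (mem_subgroupOf.2 ?_)
    rw [eq_of_le_of_card_ge hAB e.ge]
    exact hxB
  have hB : Centric T B := ⟨hP.two, hP.fused, fun y hy hyB hQ' =>
    hAB (hA.closed y hy (centralizer_le hAB hyB) (hQ'.to_le (sup_le_sup_right hAB _)))⟩
  have hBT := card_le_fused hT hB.two hB.fused
  have hbd := ih _ (by omega) hB rfl
  -- the perfect part of the centraliser
  set C := centralizer (A : Set G) with hC
  set X := per C
  have hCN : C ≤ N := centralizer_le_normalizer (A : Set G)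
  have hBn : B ≤ normalizer (X : Set G) :=
    hP.le.trans ((LELarge.normalizer_le_normalizer_centralizer A).trans (normalizer_le_per C))
  have hXN : X ⊔ B ≤ N := sup_le ((per_le C).trans hCN) hP.le
  have hPX : Part T (X ⊔ B) B := ⟨le_sup_right, hP.two, hP.fused, fun y hy => hP.closed y (hXN hy)⟩
  have hk := kill hcp (perfect_per C) hPX hBn fun z hz hzX x' hx' => by
    have hzA : z ∈ A := hA.closed z (hP.fused z hz) (per_le C hzX)
      (hP.two.to_le (sup_le hAB (zpowers_le.2 hz)))
    exact mem_centralizer_iff.1 (per_le C hx') z hzA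
  have hCX : C ⊓ centralizer (B : Set G) ≤ normalizer (core X : Set G) :=
    inf_le_left.trans ((le_normalizer.trans (normalizer_le_per C)).trans (normalizer_le_normalizer_core X))
  have hle' : X ≤ core X ⊔ per (C ⊓ centralizer (B : Set G)) :=
    perfect_le_sup (perfect_per C) hCX fun z hz => mem_sup_centralizer ((core_le X).trans (per_le C))
      (core_odd X) hP.two (hBn.trans (normalizer_le_normalizer_core X)) (per_le C hz) (hk z hz)
  exact ((hbd.mono (per_mono inf_le_right)).sup (core_odd X) ((per_le _).trans hCX)).mono hle'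

/-- The overgroup at a subgroup of `T` whose centraliser is proper. -/
theorem exists_local (hcp : CommPair.Stmt.{u}) (ih : Below.{u} (Nat.card G))
    (hT : Cfsg.IsStronglyClosed T (S : Subgroup G)) {n : ℕ} (hbase : Bnd n (per (centralizer (T : Set G))))
    {A : Subgroup G} (hAT : A ≤ T) (hC : centralizer (A : Set G) ≠ ⊤)
    (hmax : ∀ Q ≤ centralizer (A : Set G), IsPGroup 2 Q → (S : Subgroup G) ⊓ centralizer (A : Set G) ≤ Q →
      Q ≤ (S : Subgroup G)) :
    ∃ Γ : Subgroup G, per (centralizer (T : Set G)) ≤ Γ ∧ normalizer (A : Set G) ≤ normalizer (Γ : Set G) ∧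
      Bnd n Γ := by
  haveI : Fact (Nat.Prime 2) := ⟨Nat.prime_two⟩
  set K := centralizer (A : Set G) with hK
  set B := T ⊓ K
  have hTS : IsPGroup 2 T := S.isPGroup'.to_le hT.1
  have hB2 : IsPGroup 2 B := hTS.to_le inf_le_left
  have hP : Part T K B := by
    refine ⟨inf_le_right, hB2, fun b hb => InR.of_mem (mem_inf.1 hb).1, fun y hy hyT hQ => ?_⟩
    obtain ⟨c, hc, T', hT', hST', hT'K, hcT⟩ := ClosedAbelian.exists_conj_over
      ((S.isPGroup'.to_le inf_le_left : IsPGroup 2 ↥((S : Subgroup G) ⊓ K))) inf_le_right hQ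
      (sup_le inf_le_right (zpowers_le.2 hy))
    have hf := inR_of_sup_zpowers hT hQ (B := B) (fun b hb => InR.of_mem (mem_inf.1 hb).1) hyT
    have hle : (B ⊔ zpowers y).map (MulAut.conj c).toMonoidHom ≤ B := by
      rintro _ ⟨x, hx, rfl⟩
      exact mem_inf.2 ⟨CommPair.mem_of hT (hmax T' hT'K hT' hST' (hcT x hx)) ((hf x hx).conj c), hT'K (hcT x hx)⟩
    have hcard := card_le_of_le hle
    rw [LEBasic.card_map_conj] at hcard
    exact (eq_of_le_of_card_ge le_sup_left hcard).ge (mem_sup_right (mem_zpowers y))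
  set O := core K
  set H := K ⊓ centralizer (B : Set G)
  set L₁ := per H
  have hKn : K ≤ normalizer (O : Set G) := core_normalized K
  have hHO : H ≤ normalizer (O : Set G) := inf_le_left.trans hKn
  have hTE : per (centralizer (T : Set G)) ≤ L₁ := per_mono (le_inf (centralizer_le hAT) (centralizer_le inf_le_left))
  refine ⟨O ⊔ L₁, hTE.trans le_sup_right, ?_, ?_⟩
  · have hKΓ : K ≤ normalizer ((O ⊔ L₁ : Subgroup G) : Set G) := by
      intro k hk
      rw [← LEBasic.map_conj_eq_iff_mem_normalizer]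
      refine eq_of_le_of_card_ge ?_ (LEBasic.card_map_conj _ k).ge
      rw [Subgroup.map_sup, LEBasic.map_conj_eq_iff_mem_normalizer.2 (hKn hk)]
      refine sup_le le_sup_left (perfect_le_sup (perfect_map (perfect_per H) _) hHO ?_)
      rintro _ ⟨l, hl, rfl⟩
      refine mem_sup_centralizer (core_le K) (core_odd K) hB2 (hP.le.trans hKn)
        (mul_mem (mul_mem hk (mem_inf.1 (per_le H hl)).1) (inv_mem hk)) fun b hb => ?_
      have h := hP.apply ih hT hC hl (mul_mem (mul_mem (inv_mem hk) (hP.le hb)) hk)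
        (by simpa using (hP.fused b hb).conj k⁻¹)
      have h' := ClosedAbelian.conj_mem_core hk h
      rwa [show k * ⁅l, k⁻¹ * b * k⁆ * k⁻¹ = ⁅k * l * k⁻¹, b⁆ by simp only [commutatorElement_def]; group] at h'
    intro x hx
    have hxK := LELarge.normalizer_le_normalizer_centralizer A hx
    obtain ⟨c, hc, hcB⟩ := hP.exists_conj (Q := B.map (MulAut.conj x).toMonoidHom) (hB2.map _)
      (fun q ⟨b, hb, hq⟩ => hq ▸ (mem_normalizer_iff.1 hxK b).1 (hP.le hb))
      (fun q ⟨b, hb, hq⟩ => hq ▸ (hP.fused b hb).conj x)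
    have hyK : c * x ∈ normalizer (K : Set G) := mul_mem (le_normalizer hc) hxK
    have hyB : c * x ∈ normalizer (B : Set G) := mem_normalizer_fintype fun b hb => by
      have h1 := hcB (x * b * x⁻¹) ⟨b, hb, rfl⟩
      show c * x * b * (c * x)⁻¹ ∈ B
      rwa [show c * x * b * (c * x)⁻¹ = c * (x * b * x⁻¹) * c⁻¹ by group]
    have hy : c * x ∈ normalizer ((O ⊔ L₁ : Subgroup G) : Set G) :=
      normalizer_inf_normalizer_le_normalizer_sup O L₁ (mem_inf.2 ⟨normalizer_le_normalizer_core K hyK,
        normalizer_le_per H (inf_normalizer_le_normalizer_inf (mem_inf.2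
          ⟨hyK, LELarge.normalizer_le_normalizer_centralizer B hyB⟩))⟩)
    simpa using mul_mem (inv_mem (hKΓ hc)) hy
  · have hE : Centric T (A ⊔ B) := by
      refine ⟨hTS.to_le (sup_le hAT inf_le_left), fun a ha => InR.of_mem ((sup_le hAT inf_le_left) ha),
        fun y hy hyE hQ => mem_sup_right (hP.closed y ?_ hy (hQ.to_le (sup_le_sup_right le_sup_right _)))⟩
      exact centralizer_le (show A ≤ A ⊔ B from le_sup_left) hyE
    exact ((climb hcp hT hbase hE).mono (per_mono (le_centralizer_sup inf_le_left inf_le_right))).sup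
      (core_odd K) ((per_le H).trans hHO)

end Cfsg.Agent.ClosedCent
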