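import Cfsg.Agent.Lib.Fusion.AlperinGroup
import Cfsg.Agent.Lib.PLocal.ZJClosed
import Cfsg.Agent.Lib.ClosedCent.Climb

/-!
The Sylow subgroup of the perfect part of the centraliser of `T` is strongly closed.
-/

set_option autoImplicit false
set_option linter.unusedSectionVars false
set_option linter.style.haveILetI false

namespace Cfsg.Agent.ClosedCent

open Subgroup Cfsg.Agent.SylowSplit
open scoped commutatorElement

universe u

variable {G : Type u} [Group G] [Finite G] {S : Sylow 2 G} {T : Subgroup G}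

theorem normalizer_le_perCent (T : Subgroup G) :
    normalizer (T : Set G) ≤ normalizer (per (centralizer (T : Set G)) : Set G) :=
  (LELarge.normalizer_le_normalizer_centralizer T).trans (normalizer_le_per _)

theorem le_normalizer_perCent (hT : Cfsg.IsStronglyClosed T (S : Subgroup G)) :
    (S : Subgroup G) ≤ normalizer (per (centralizer (T : Set G)) : Set G) :=
  (ZJClosed.sylow_le_normalizer hT).trans (normalizer_le_perCent T)

/-- The Sylow subgroup of the perfect part inside `S`. -/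
theorem bnd_perCent (hT : Cfsg.IsStronglyClosed T (S : Subgroup G)) :
    Bnd (Nat.card ↥((S : Subgroup G) ⊓ per (centralizer (T : Set G)))) (per (centralizer (T : Set G))) := by
  set L := per (centralizer (T : Set G))
  intro Q hQ hQ2
  obtain ⟨c, hc, T', hT', hST', -, hcT⟩ := ClosedAbelian.exists_conj_over (X := L ⊔ (S : Subgroup G))
    S.isPGroup' le_sup_right hQ2 (hQ.trans le_sup_left)
  have he : T' = (S : Subgroup G) := S.is_maximal' hT' hST'
  rw [← LEBasic.card_map_conj Q c]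
  refine card_le_of_le ?_
  rintro _ ⟨q, hq, rfl⟩
  exact mem_inf.2 ⟨he ▸ hcT q hq,
    (mem_normalizer_iff.1 ((sup_le le_normalizer (le_normalizer_perCent hT)) hc) q).1 (hQ hq)⟩

/-- An element of `T` central in `S` lies in every local subgroup. -/
theorem mem_of_local [Fact (Nat.Prime 2)] {D : Subgroup G} (hD : AlperinGroup.Local S D) {z : G}
    (hz : z ∈ (S : Subgroup G)) (hc : ∀ s ∈ (S : Subgroup G), z * s = s * z) : z ∈ D := by
  obtain ⟨hDS, hCD, ⟨-, -, hcomm, -, hsup⟩, -⟩ := hD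
  have hz' := hCD (mem_centralizer_iff.2 fun d hd => (hc d (hDS hd)).symm)
  rw [← hsup, sup_comm] at hz'
  set O := (Cfsg.pPrimeCore 2 ↥(normalizer (D : Set G))).map (normalizer (D : Set G)).subtype
  have hOD : O ≤ normalizer (D : Set G) := map_subtype_le _
  obtain ⟨d, hd, o, ho, hdo⟩ := exists_mul hOD hz'
  have hoS : o ∈ (S : Subgroup G) := by
    have : o = d⁻¹ * z := by rw [← hdo]; group
    rw [this]
    exact mul_mem (inv_mem (hDS hd)) hz
  have ho1 : o = 1 := by
    obtain ⟨k, hk⟩ := two_elt_of_mem S.2 hoS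
    obtain ⟨⟨o', ho'N⟩, ho', rfl⟩ := ho
    have h := SEBrick.odd_order (SEBrick.oddCore_odd (G := ↥(normalizer (D : Set G)))) ho'
    rw [← Subgroup.orderOf_coe] at h
    exact (ClosedAbelian.TwoEl.eq_one_of_odd ⟨k, hk ▸ pow_orderOf_eq_one _⟩ h)
  rw [← hdo, ho1, mul_one]
  exact hd

/-- Elements of `U` are kept by a chain through local subgroups meeting `T` in at least `n` elements. -/
theorem chain_mem [Fact (Nat.Prime 2)] (hT : Cfsg.IsStronglyClosed T (S : Subgroup G)) {U : Subgroup G} {n : ℕ}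
    (hstep : ∀ D : Subgroup G, AlperinGroup.Local S D → n ≤ Nat.card ↥(D ⊓ T) →
      ∀ x ∈ normalizer (D : Set G), ∀ u ∈ U ⊓ D, x⁻¹ * u * x ∈ U)
    {A : Set G} {g : G} (h : AlperinGroup.Chain S A g) :
    ∀ B : Subgroup G, B ≤ T → (B : Set G) ⊆ A → n ≤ Nat.card B → ∀ u ∈ U, u ∈ A → g⁻¹ * u * g ∈ U := by
  induction h with
  | nil hc =>
    intro B _ _ _ u hu huA
    rwa [mul_assoc, mem_centralizer_iff.1 hc u huA, inv_mul_cancel_left]
  | @cons A x g D hD hx hA _ ih =>
    intro B hBT hBA hn u hu huA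
    have hBD : B ≤ D := fun b hb => hA (hBA hb)
    have h1 := hstep D hD (hn.trans (card_le_of_le (le_inf hBD hBT))) x hx u (mem_inf.2 ⟨hu, hA huA⟩)
    have h2 := ih (B.map (MulAut.conj x⁻¹).toMonoidHom) ?_ ?_ (by rwa [LEBasic.card_map_conj]) _ h1
      ⟨u, huA, rfl⟩
    · rwa [show (x * g)⁻¹ * u * (x * g) = g⁻¹ * (x⁻¹ * u * x) * g by group]
    · rintro _ ⟨b, hb, rfl⟩
      exact hT.2 b (hBT hb) x⁻¹ (hD.1 ((mem_normalizer_iff.1 (inv_mem hx) b).1 (hBD hb)))
    · rintro _ ⟨b, hb, rfl⟩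
      exact ⟨b, hBA hb, by simp [mul_assoc]⟩

/-- The Sylow subgroup of the perfect part is strongly closed. -/
theorem stronglyClosed_perCent (hcp : CommPair.Stmt.{u}) (ih : Below.{u} (Nat.card G)) (hZ : center G = ⊥)
    (hT : Cfsg.IsStronglyClosed T (S : Subgroup G)) (hT1 : T ≠ ⊥) :
    Cfsg.IsStronglyClosed ((S : Subgroup G) ⊓ per (centralizer (T : Set G))) (S : Subgroup G) := by
  haveI : Fact (Nat.Prime 2) := ⟨Nat.prime_two⟩
  set L := per (centralizer (T : Set G)) with hL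
  set U := (S : Subgroup G) ⊓ L with hU
  have hbase : Bnd (Nat.card U) L := bnd_perCent hT
  obtain ⟨z, hz, hz1⟩ := (T ⊓ ((S : Subgroup G) ⊓ centralizer ((S : Subgroup G) : Set G))).bot_or_exists_ne_one.resolve_left
    (ClosedZJ.inf_ne_bot hT hT1 le_rfl)
  obtain ⟨hzT, hzS⟩ := mem_inf.1 hz
  obtain ⟨hzS, hzC⟩ := mem_inf.1 hzS
  have step : ∀ D : Subgroup G, AlperinGroup.Local S D → ∀ x ∈ normalizer (D : Set G),
      ∀ u ∈ U ⊓ D, x⁻¹ * u * x ∈ U := by
    intro D
    induction hm : Nat.card T - Nat.card ↥(D ⊓ T) using Nat.strong_induction_on generalizing D with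
    | _ m ihm =>
    intro hD x hx u hu
    obtain ⟨huU, huD⟩ := mem_inf.1 hu
    set A := D ⊓ T
    have hvD : x⁻¹ * u * x ∈ D := by
      have h := (mem_normalizer_iff.1 (inv_mem hx) u).1 huD
      rwa [inv_inv] at h
    have hvS := hD.1 hvD
    have hxA : x ∈ normalizer (A : Set G) := mem_normalizer_fintype fun a ha =>
      mem_inf.2 ⟨(mem_normalizer_iff.1 hx a).1 (mem_inf.1 ha).1,
        hT.2 a (mem_inf.1 ha).2 x (hD.1 ((mem_normalizer_iff.1 hx a).1 (mem_inf.1 ha).1))⟩
    by_cases hAT : A = T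
    · refine mem_inf.2 ⟨hvS, ?_⟩
      have h := (mem_normalizer_iff.1 (normalizer_le_perCent T (hAT ▸ inv_mem hxA)) u).1 (mem_inf.1 huU).2
      rwa [inv_inv] at h
    set N := normalizer (A : Set G)
    obtain ⟨Q, hQ⟩ := ((S.isPGroup'.to_le inf_le_left :
      IsPGroup 2 ↥((S : Subgroup G) ⊓ N)).comap_subtype (K := N)).exists_le_sylow
    set R := (Q : Subgroup N).map N.subtype
    obtain ⟨k, hk⟩ := exists_conj_le S (Q.2.map N.subtype)
    have hA₀ : (S : Subgroup G) ⊓ N ≤ R := fun y hy => ⟨⟨y, (mem_inf.1 hy).2⟩, hQ (mem_subgroupOf.2 hy), rfl⟩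
    -- the normaliser grows in `T`
    have hgrow : Nat.card A < Nat.card ↥(N ⊓ T) := by
      have hlt : A.subgroupOf T < ⊤ :=
        lt_top_iff_ne_top.2 fun e => hAT (le_antisymm inf_le_right (subgroupOf_eq_top.1 e))
      haveI : Group.IsNilpotent T := (S.isPGroup'.to_le hT.1).isNilpotent
      obtain ⟨y, hy, hyA⟩ := SetLike.exists_of_lt (Group.normalizerCondition_of_isNilpotent _ hlt)
      have hyN : (y : G) ∈ N := mem_normalizer_fintype fun a ha => by
        have h := (mem_normalizer_iff.1 hy ⟨a, (mem_inf.1 ha).2⟩).1 (mem_subgroupOf.2 ha)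
        simpa [mem_subgroupOf] using h
      refine lt_of_le_of_ne (card_le_of_le (le_inf le_normalizer inf_le_right)) fun e => hyA (mem_subgroupOf.2 ?_)
      rw [eq_of_le_of_card_ge (le_inf le_normalizer inf_le_right : A ≤ N ⊓ T) e.ge]
      exact mem_inf.2 ⟨hyN, y.2⟩
    have hchain : AlperinGroup.Chain S (((S : Subgroup G) ⊓ N : Subgroup G) : Set G) k⁻¹ := by
      refine AlperinGroup.exists_chain S (fun y hy => (mem_inf.1 hy).1) ?_
      rintro _ ⟨y, hy, rfl⟩
      show k⁻¹⁻¹ * y * k⁻¹ ∈ (S : Subgroup G)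
      rw [inv_inv]
      exact hk y (hA₀ hy)
    have hUN : ∀ v ∈ U, v ∈ (S : Subgroup G) ⊓ N := fun v hv => mem_inf.2 ⟨(mem_inf.1 hv).1,
      centralizer_le_normalizer _ (centralizer_le (show A ≤ T from inf_le_right) (per_le _ (mem_inf.1 hv).2))⟩
    have hkU : ∀ v ∈ U, k * v * k⁻¹ ∈ U := fun v hv => by
      have h := chain_mem hT (n := Nat.card ↥(N ⊓ T))
        (fun D' hD' hn => ihm _ (by
          have := card_le_of_le (show D' ⊓ T ≤ T from inf_le_right)
          have := card_le_of_le (show N ⊓ T ≤ T from inf_le_right)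
          omega) D' rfl hD')
        hchain (N ⊓ T) inf_le_right (fun y hy => mem_inf.2 ⟨hT.1 (mem_inf.1 hy).2, (mem_inf.1 hy).1⟩) le_rfl
        v hv (hUN v hv)
      rwa [inv_inv] at h
    set c := (MulAut.conj k).toMonoidHom
    have hkU' : U.map c = U :=
      eq_of_le_of_card_ge (by rintro _ ⟨v, hv, rfl⟩; exact hkU v hv) (LEBasic.card_map_conj U k).ge
    set A' := A.map c
    have hA'T : A' ≤ T := by
      rintro _ ⟨a, ha, rfl⟩
      exact hT.2 a (mem_inf.1 ha).2 k (hk a (hA₀ (mem_inf.2 ⟨hD.1 (mem_inf.1 ha).1, le_normalizer ha⟩)))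
    have hA'1 : centralizer (A' : Set G) ≠ ⊤ := by
      intro e
      have hza : k * z * k⁻¹ ∈ A' :=
        ⟨z, mem_inf.2 ⟨mem_of_local hD hzS fun s hs => (mem_centralizer_iff.1 hzC s hs).symm, hzT⟩, rfl⟩
      have hc' : k * z * k⁻¹ ∈ center G := mem_center_iff.2 fun g =>
        (mem_centralizer_iff.1 (e.ge (mem_top g)) _ hza).symm
      rw [hZ, mem_bot, conj_eq_one_iff] at hc'
      exact hz1 hc'
    have hcinj : Function.Injective c := (MulAut.conj k).injective
    have hNA' : N.map c ≤ normalizer (A' : Set G) := le_normalizer_map _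
    have hmax : ∀ Q' ≤ centralizer (A' : Set G), IsPGroup 2 Q' →
        (S : Subgroup G) ⊓ centralizer (A' : Set G) ≤ Q' → Q' ≤ (S : Subgroup G) := by
      intro Q' hQ'C hQ' hSQ'
      set c' := (MulAut.conj k⁻¹).toMonoidHom
      have hA'' : A'.map c' = A := by
        rw [Subgroup.map_map]
        convert Subgroup.map_id A using 2
        ext y
        simp [c, c', mul_assoc]
      have hQ'N : Q'.map c' ≤ N := (map_mono (hQ'C.trans (centralizer_le_normalizer _))).trans
        (by conv_rhs => rw [show N = normalizer (A : Set G) from rfl, ← hA'']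
            exact le_normalizer_map _)
      obtain ⟨m, hm, hmle⟩ := LESylow.exists_conj_le_of_le hQ'N (hQ'.map _) Q
      have hm' : k * m * k⁻¹ ∈ normalizer (A' : Set G) := hNA' ⟨m, hm, rfl⟩
      have hle : Q'.map (MulAut.conj (k * m * k⁻¹)).toMonoidHom ≤
          (S : Subgroup G) ⊓ centralizer (A' : Set G) := by
        rintro _ ⟨q, hq, rfl⟩
        refine mem_inf.2 ⟨?_, (mem_normalizer_iff.1 (LELarge.normalizer_le_normalizer_centralizer A' hm') q).1
          (hQ'C hq)⟩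
        show k * m * k⁻¹ * q * (k * m * k⁻¹)⁻¹ ∈ (S : Subgroup G)
        rw [show k * m * k⁻¹ * q * (k * m * k⁻¹)⁻¹ = k * (m * (k⁻¹ * q * k⁻¹⁻¹) * m⁻¹) * k⁻¹ by group]
        exact hk _ (hmle ⟨_, ⟨q, hq, rfl⟩, rfl⟩)
      have hcard := card_le_of_le hle
      rw [LEBasic.card_map_conj] at hcard
      exact (eq_of_le_of_card_ge hSQ' hcard).ge.trans inf_le_left
    obtain ⟨Γ, hLΓ, hΓn, hΓb⟩ := exists_local hcp ih hT hbase hA'T hA'1 hmax
    -- the conjugate lies in the overgroup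
    set v := x⁻¹ * u * x
    have hm : k * x⁻¹ * k⁻¹ ∈ normalizer (A' : Set G) := hNA' ⟨x⁻¹, inv_mem hxA, rfl⟩
    have hv' : k * v * k⁻¹ ∈ Γ := by
      have h := (mem_normalizer_iff.1 (hΓn hm) _).1 (hLΓ (mem_inf.1 (hkU u huU)).2)
      rwa [show k * x⁻¹ * k⁻¹ * (k * u * k⁻¹) * (k * x⁻¹ * k⁻¹)⁻¹ = k * (x⁻¹ * u * x) * k⁻¹ by group] at h
    set W := (U ⊔ zpowers v).map c
    have hW2 : IsPGroup 2 W := (S.isPGroup'.to_le (sup_le inf_le_left (zpowers_le.2 hvS))).map _
    have hWΓ : W ≤ Γ := by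
      rw [show W = U.map c ⊔ (zpowers v).map c from Subgroup.map_sup _ _ _, hkU', MonoidHom.map_zpowers]
      exact sup_le (inf_le_right.trans hLΓ) (zpowers_le.2 hv')
    have hUW : U ≤ W := hkU'.ge.trans (map_mono le_sup_left)
    have hkv : k * v * k⁻¹ ∈ U :=
      (eq_of_le_of_card_ge hUW (hΓb W hWΓ hW2)).ge ⟨v, mem_sup_right (mem_zpowers v), rfl⟩
    rw [← hkU'] at hkv
    obtain ⟨v', hv'U, he⟩ := hkv
    exact hcinj (show c v' = c v from he) ▸ hv'U
  refine ⟨inf_le_left, fun x hx g hg => ?_⟩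
  have hch : AlperinGroup.Chain S ({1, x} : Set G) g⁻¹ := by
    refine AlperinGroup.exists_chain S ?_ ?_
    · rintro y (rfl | rfl)
      exacts [one_mem _, (mem_inf.1 hx).1]
    · rintro _ ⟨y, (rfl | rfl), rfl⟩
      · simp
      · show g⁻¹⁻¹ * y * g⁻¹ ∈ (S : Subgroup G)
        rwa [inv_inv]
  have h := chain_mem hT (n := 1) (fun D hD _ => step D hD) hch ⊥ bot_le
    (fun y hy => Or.inl (mem_bot.1 hy)) (by simp) x hx (Or.inr rfl)
  simpa using h

end Cfsg.Agent.ClosedCent
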