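import Cfsg.Agent.Lib.CommPair.Basic
import Cfsg.Agent.Lib.ClosedCent.Basic

/-!
The elements fused into a strongly closed 2-subgroup inside a subgroup.
-/

set_option autoImplicit false
set_option linter.unusedSectionVars false
set_option linter.style.haveILetI false

namespace Cfsg.Agent.ClosedCent

open Subgroup Cfsg.Agent.SylowSplit
open Cfsg.Agent.CommPair (mem_of inR_mul two_elt)
open scoped commutatorElement

universe u

variable {G : Type u} [Group G] [Finite G] {S : Sylow 2 G} {T : Subgroup G}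

theorem inR_inv {y : G} (h : InR T y) : InR T y⁻¹ := by
  obtain ⟨g, hg⟩ := h
  exact ⟨g, by rw [show g * y⁻¹ * g⁻¹ = (g * y * g⁻¹)⁻¹ by group]; exact inv_mem hg⟩

/-- The elements of a 2-group fused into `T`. -/
def fusedIn (hT : Cfsg.IsStronglyClosed T (S : Subgroup G)) {Q : Subgroup G} (hQ : IsPGroup 2 Q) : Subgroup G where
  carrier := {y | y ∈ Q ∧ InR T y}
  one_mem' := ⟨one_mem Q, InR.of_mem (one_mem T)⟩
  mul_mem' {_ _} ha hb := ⟨mul_mem ha.1 hb.1, inR_mul hT hQ ha.1 hb.1 ha.2 hb.2⟩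
  inv_mem' {_} ha := ⟨inv_mem ha.1, inR_inv ha.2⟩

/-- Every element of a 2-group generated by fused elements is fused. -/
theorem inR_of_sup (hT : Cfsg.IsStronglyClosed T (S : Subgroup G)) {A B : Subgroup G}
    (hQ : IsPGroup 2 ↥(A ⊔ B)) (hA : ∀ a ∈ A, InR T a) (hB : ∀ b ∈ B, InR T b) :
    ∀ x ∈ A ⊔ B, InR T x := fun _ hx =>
  ((sup_le (c := fusedIn hT hQ) (fun a ha => ⟨mem_sup_left ha, hA a ha⟩)
    fun b hb => ⟨mem_sup_right hb, hB b hb⟩) hx).2

theorem inR_of_sup_zpowers (hT : Cfsg.IsStronglyClosed T (S : Subgroup G)) {B : Subgroup G} {y : G}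
    (hQ : IsPGroup 2 ↥(B ⊔ zpowers y)) (hB : ∀ b ∈ B, InR T b) (hy : InR T y) :
    ∀ x ∈ B ⊔ zpowers y, InR T x := fun _ hx =>
  ((sup_le (c := fusedIn hT hQ) (fun b hb => ⟨mem_sup_left hb, hB b hb⟩)
    (zpowers_le.2 ⟨mem_sup_right (mem_zpowers y), hy⟩)) hx).2

/-- A 2-group of fused elements is conjugate into `T`. -/
theorem exists_map_le (hT : Cfsg.IsStronglyClosed T (S : Subgroup G)) {Q : Subgroup G} (hQ : IsPGroup 2 Q)
    (hf : ∀ y ∈ Q, InR T y) : ∃ g : G, Q.map (MulAut.conj g).toMonoidHom ≤ T := by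
  obtain ⟨g, hg⟩ := exists_conj_le S hQ
  refine ⟨g, ?_⟩
  rintro _ ⟨y, hy, rfl⟩
  exact mem_of hT (hg y hy) ((hf y hy).conj g)

theorem card_le_fused (hT : Cfsg.IsStronglyClosed T (S : Subgroup G)) {Q : Subgroup G} (hQ : IsPGroup 2 Q)
    (hf : ∀ y ∈ Q, InR T y) : Nat.card Q ≤ Nat.card T := by
  obtain ⟨g, hg⟩ := exists_map_le hT hQ hf
  rw [← LEBasic.card_map_conj Q g]
  exact card_le_of_le hg

/-- A largest subgroup of fused elements in a 2-subgroup of `X`. -/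
structure Part (T X B : Subgroup G) : Prop where
  le : B ≤ X
  two : IsPGroup 2 B
  fused : ∀ b ∈ B, InR T b
  closed : ∀ y ∈ X, InR T y → IsPGroup 2 ↥(B ⊔ zpowers y) → y ∈ B

/-- The fused part of a Sylow subgroup. -/
theorem Part.of_sylow (hT : Cfsg.IsStronglyClosed T (S : Subgroup G)) {X R : Subgroup G} (hR : IsPGroup 2 R)
    (hRX : R ≤ X) (hsyl : ∀ Q ≤ X, IsPGroup 2 Q → ∃ c ∈ X, ∀ q ∈ Q, c * q * c⁻¹ ∈ R) :
    Part T X (fusedIn hT hR) := by
  refine ⟨fun y hy => hRX hy.1, hR.to_le fun y hy => hy.1, fun y hy => hy.2, fun y hy hyT hQ => ?_⟩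
  have hf := inR_of_sup_zpowers hT hQ (B := fusedIn hT hR) (fun b hb => hb.2) hyT
  obtain ⟨c, -, hc⟩ := hsyl _ (sup_le ((show fusedIn hT hR ≤ R from fun x hx => hx.1).trans hRX) (zpowers_le.2 hy)) hQ
  have hle : (fusedIn hT hR ⊔ zpowers y).map (MulAut.conj c).toMonoidHom ≤ fusedIn hT hR := by
    rintro _ ⟨x, hx, rfl⟩
    exact ⟨hc x hx, (hf x hx).conj c⟩
  have hcard := card_le_of_le hle
  rw [LEBasic.card_map_conj] at hcard
  exact (eq_of_le_of_card_ge le_sup_left hcard).ge (mem_sup_right (mem_zpowers y))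

/-- `T` is such a part in every overgroup. -/
theorem Part.self (hT : Cfsg.IsStronglyClosed T (S : Subgroup G)) {X : Subgroup G} (h : T ≤ X) : Part T X T :=
  ⟨h, S.isPGroup'.to_le hT.1, fun _ hb => InR.of_mem hb, fun y _ hy hQ => by
    have hcard := card_le_fused hT hQ (inR_of_sup_zpowers hT hQ (fun b hb => InR.of_mem hb) hy)
    exact (eq_of_le_of_card_ge le_sup_left hcard).ge (mem_sup_right (mem_zpowers y))⟩

/-- Every fused element of `X` is conjugate in `X` into the part. -/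
theorem Part.exists_conj {X B : Subgroup G} (hB : Part T X B)
    {Q : Subgroup G} (hQ : IsPGroup 2 Q) (hQX : Q ≤ X) (hf : ∀ q ∈ Q, InR T q) :
    ∃ c ∈ X, ∀ q ∈ Q, c * q * c⁻¹ ∈ B := by
  obtain ⟨c, hc, T', hT', hBT, hTX, hle⟩ := ClosedAbelian.exists_conj_over hB.two hB.le hQ hQX
  exact ⟨c, hc, fun q hq => hB.closed _ (hTX (hle q hq)) ((hf q hq).conj c)
    (hT'.to_le (sup_le hBT (zpowers_le.2 (hle q hq))))⟩

theorem Part.exists_conj_one (hT : Cfsg.IsStronglyClosed T (S : Subgroup G)) {X B : Subgroup G} (hB : Part T X B)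
    {y : G} (hy : y ∈ X) (hyT : InR T y) : ∃ c ∈ X, c * y * c⁻¹ ∈ B := by
  have hp : IsPGroup 2 (zpowers y) := isPGroup_zpowers (two_elt hT hyT)
  obtain ⟨c, hc, h⟩ := hB.exists_conj hp (zpowers_le.2 hy) fun q hq =>
    ((zpowers_le (H := fusedIn hT hp)).2 ⟨mem_zpowers y, hyT⟩ hq).2
  exact ⟨c, hc, h y (mem_zpowers y)⟩

/-- The part is strongly closed in a Sylow subgroup of `X` above it. -/
theorem Part.stronglyClosed {X B : Subgroup G} (hB : Part T X B) :
    ∃ P : Sylow 2 X, Cfsg.IsStronglyClosed (B.subgroupOf X) (P : Subgroup X) := by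
  obtain ⟨P, hP⟩ := (hB.two.comap_subtype (K := X)).exists_le_sylow
  refine ⟨P, hP, fun x hx g hg => ?_⟩
  refine mem_subgroupOf.2 (hB.closed _ (g * x * g⁻¹).2 ?_ ?_)
  · have h := (hB.fused _ (mem_subgroupOf.1 hx)).conj (g : G)
    simpa using h
  · refine (P.isPGroup'.map X.subtype).to_le (sup_le ?_ (zpowers_le.2 ⟨_, hg, rfl⟩))
    exact fun b hb => ⟨⟨b, hB.le hb⟩, hP (mem_subgroupOf.2 hb), rfl⟩

/-- The conclusion in a group. -/
def Goal (X : Type u) [Group X] [Finite X] : Prop :=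
  ∀ (S : Sylow 2 X) (T : Subgroup X), Cfsg.IsStronglyClosed T (S : Subgroup X) →
    ∀ l ∈ per (centralizer (T : Set X)), ∀ y : X, InR T y → ⁅l, y⁆ ∈ Cfsg.oddCore X

/-- The conclusion in the smaller groups. -/
def Below (n : ℕ) : Prop := ∀ (X : Type u) [Group X] [Finite X], Nat.card X < n → Goal X

/-- The conclusion in a proper subgroup. -/
theorem Part.apply (ih : Below.{u} (Nat.card G)) (hT : Cfsg.IsStronglyClosed T (S : Subgroup G))
    {X B : Subgroup G} (hX : X ≠ ⊤) (hB : Part T X B) {l : G}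
    (hl : l ∈ per (X ⊓ centralizer (B : Set G))) {y : G} (hy : y ∈ X) (hyT : InR T y) :
    ⁅l, y⁆ ∈ ClosedAbelian.core X := by
  obtain ⟨P, hP⟩ := hB.stronglyClosed
  set K := centralizer ((B.subgroupOf X : Subgroup X) : Set X)
  have hlt : Nat.card X < Nat.card G := lt_of_le_of_ne (card_le_card_group _) fun e => hX (eq_top_of_card_eq _ e)
  have hK : X ⊓ centralizer (B : Set G) ≤ K.map X.subtype := by
    intro z hz
    obtain ⟨hzX, hzB⟩ := mem_inf.1 hz
    exact ⟨⟨z, hzX⟩, mem_centralizer_iff.2 fun b hb =>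
      Subtype.ext (mem_centralizer_iff.1 hzB _ (mem_subgroupOf.1 hb)), rfl⟩
  obtain ⟨l', hl', rfl⟩ := perfect_le_map X.subtype K (perfect_per _) ((per_le _).trans hK) hl
  obtain ⟨c, hc, hcy⟩ := hB.exists_conj_one hT hy hyT
  exact ⟨⁅l', ⟨y, hy⟩⁆, ih X hlt P _ hP l' hl' ⟨y, hy⟩ ⟨⟨c, hc⟩, mem_subgroupOf.2 hcy⟩, rfl⟩

end Cfsg.Agent.ClosedCent
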