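import Cfsg.Agent.Lib.CommPair.Main
import Cfsg.Agent.Lib.ClosedCent.Fused

/-!
A 2-subgroup of fused elements acting on a perfect subgroup which it meets centrally acts trivially modulo
the odd core.
-/

set_option autoImplicit false
set_option linter.unusedSectionVars false
set_option linter.style.haveILetI false

namespace Cfsg.Agent.ClosedCent

open Subgroup Cfsg.Agent.SylowSplit
open Cfsg.Agent.ClosedAbelian (core core_le le_core TwoEl conj_mem_core)
open scoped commutatorElement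

universe u

theorem twoEl_order {G : Type u} [Group G] {x : G} (h : TwoEl x) : ∃ k, orderOf x = 2 ^ k := by
  obtain ⟨k, hk⟩ := h
  obtain ⟨i, -, hi⟩ := (Nat.dvd_prime_pow Nat.prime_two).1 (orderOf_dvd_of_pow_eq_one hk)
  exact ⟨i, hi⟩

/-- The statement in the product of the two subgroups. -/
theorem kill_top (hcp : CommPair.Stmt.{u}) {J : Type u} [Group J] [Finite J] (P : Sylow 2 J) {B X : Subgroup J}
    [X.Normal] (hsc : Cfsg.IsStronglyClosed B (P : Subgroup J)) (hZ : ∀ z ∈ B, z ∈ X → ∀ x ∈ X, Commute z x)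
    (hgen : X ⊔ B = ⊤) (hX : ⁅X, X⁆ = X) : ∀ x ∈ X, ∀ b ∈ B, ⁅x, b⁆ ∈ core X := by
  haveI : Fact (Nat.Prime 2) := ⟨Nat.prime_two⟩
  set Z := X ⊓ B with hZdef
  haveI : Z.Normal := normalizer_eq_top_iff.1 (eq_top_iff.2 (by
    rw [← hgen]
    refine sup_le (fun x hx => mem_normalizer_fintype fun z hz => ?_)
      ((le_inf (le_top.trans (normalizer_eq_top (H := X)).ge) le_normalizer).trans inf_normalizer_le_normalizer_inf)
    obtain ⟨hzX, hzB⟩ := mem_inf.1 hz
    show x * z * x⁻¹ ∈ Z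
    rw [← (hZ z hzB hzX x hx).eq, mul_inv_cancel_right]
    exact hz))
  have hZP : Z ≤ (P : Subgroup J) := inf_le_right.trans hsc.1
  set π := QuotientGroup.mk' Z
  have hX2 : Cfsg.IsStronglyClosed ((P : Subgroup J) ⊓ X) (P : Subgroup J) :=
    ⟨inf_le_left, fun x hx g hg => mem_inf.2 ⟨hg, ‹X.Normal›.conj_mem x (mem_inf.1 hx).2 g⟩⟩
  have D : CommPair.Pair (P.mapSurjective (QuotientGroup.mk'_surjective Z)) (B.map π)
      (((P : Subgroup J) ⊓ X).map π) := by
    refine ⟨ClosedZJ.stronglyClosed_map P hsc (Or.inr hZP), ClosedZJ.stronglyClosed_map P hX2 (Or.inr hZP),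
      ?_, ?_⟩
    · rintro _ ⟨b, hb, rfl⟩ _ ⟨x, hx, rfl⟩
      obtain ⟨hxP, hxX⟩ := mem_inf.1 hx
      have h : ⁅b, x⁆ ∈ Z := by
        refine mem_inf.2 ⟨mul_mem (‹X.Normal›.conj_mem x hxX b) (inv_mem hxX), ?_⟩
        rw [commutatorElement_def, show b * x * b⁻¹ * x⁻¹ = b * (x * b⁻¹ * x⁻¹) by group]
        exact mul_mem hb (hsc.2 _ (inv_mem hb) x (mul_mem (mul_mem hxP (inv_mem (hsc.1 hb))) (inv_mem hxP)))
      rw [← commutatorElement_eq_one_iff_commute, ← map_commutatorElement]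
      exact (QuotientGroup.eq_one_iff _).2 h
    · rw [eq_bot_iff]
      rintro _ ⟨⟨b, hb, rfl⟩, x, hx, he⟩
      refine mem_bot.2 ((QuotientGroup.eq_one_iff b).2 (mem_inf.2 ⟨?_, hb⟩))
      have h1 : x⁻¹ * b ∈ Z := QuotientGroup.eq.1 he
      simpa using mul_mem (mem_inf.1 hx).2 (mem_inf.1 h1).1
  set O := Cfsg.oddCore (J ⧸ Z)
  haveI : O.Normal := FittingCores.pPrimeCore_normal 2
  set W := O.comap π
  haveI hWn : W.Normal := inferInstanceAs (O.comap π).Normal
  let C : Subgroup J :=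
    { carrier := {x | x ∈ X ∧ ∀ b ∈ B, ⁅x, b⁆ ∈ W}
      one_mem' := ⟨one_mem X, fun b _ => by simp⟩
      mul_mem' := fun {x y} hx hy => ⟨mul_mem hx.1 hy.1, fun b hb => by
        rw [show ⁅x * y, b⁆ = x * ⁅y, b⁆ * x⁻¹ * ⁅x, b⁆ by simp only [commutatorElement_def]; group]
        exact mul_mem (hWn.conj_mem _ (hy.2 b hb) x) (hx.2 b hb)⟩
      inv_mem' := fun {x} hx => ⟨inv_mem hx.1, fun b hb => by
        rw [show ⁅x⁻¹, b⁆ = x⁻¹ * ⁅x, b⁆⁻¹ * x⁻¹⁻¹ by simp only [commutatorElement_def]; group]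
        exact hWn.conj_mem _ (inv_mem (hx.2 b hb)) x⁻¹⟩ }
  have hXC : X ≤ C := le_of_twoEl hX fun x hx h2 => ⟨hx, fun b hb => by
    obtain ⟨k, hk⟩ := exists_conj_mem P (twoEl_order h2)
    have hxR : InR ((P : Subgroup J) ⊓ X) x := ⟨k, mem_inf.2 ⟨hk, ‹X.Normal›.conj_mem x hx k⟩⟩
    show π ⁅x, b⁆ ∈ O
    rw [map_commutatorElement, ← commutatorElement_inv]
    exact inv_mem (hcp _ _ _ _ D _ _ (CommPair.Pair.inR_map π (InR.of_mem hb)) (CommPair.Pair.inR_map π hxR))⟩
  -- inside `X`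
  set Z' : Subgroup X := Z.subgroupOf X
  have hZ'c : Z' ≤ center X := fun z hz => mem_center_iff.2 fun g => Subtype.ext
    (hZ _ (mem_inf.1 (mem_subgroupOf.1 hz)).2 z.2 _ g.2).eq.symm
  have hsup : W.subgroupOf X ≤ Cfsg.oddCore X ⊔ Z' := by
    refine le_sup_core ((P.isPGroup'.to_le hZP).comap_subtype) hZ'c fun w hw => ⟨Nat.card O, ?_, ?_⟩
    · exact SEBrick.oddCore_odd
    · refine mem_subgroupOf.2 ((QuotientGroup.eq_one_iff _).1 ?_)
      show π ((w ^ Nat.card O : X) : J) = 1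
      rw [SubgroupClass.coe_pow, map_pow]
      exact congrArg Subtype.val (pow_card_eq_one' (x := (⟨π w, hw⟩ : O)))
  intro x hx b hb
  set π₀ := QuotientGroup.mk' (Cfsg.oddCore X)
  have hmemX : ∀ x : X, ⁅(x : J), b⁆ ∈ X := fun x => by
    rw [commutatorElement_def, show (x : J) * b * (x : J)⁻¹ * b⁻¹ = x * (b * (x : J)⁻¹ * b⁻¹) by group]
    exact mul_mem x.2 (‹X.Normal›.conj_mem _ (inv_mem x.2) b)
  let c : X → X := fun x => ⟨⁅(x : J), b⁆, hmemX x⟩
  have hcen : ∀ x : X, π₀ (c x) ∈ center (X ⧸ Cfsg.oddCore X) := fun x => by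
    haveI : (Cfsg.oddCore X).Normal := FittingCores.pPrimeCore_normal 2
    obtain ⟨o, ho, z, hz, hoz⟩ := exists_mul (le_top.trans (normalizer_eq_top (H := Cfsg.oddCore X)).ge)
      (hsup (mem_subgroupOf.2 ((hXC x.2).2 b hb) : c x ∈ W.subgroupOf X))
    rw [← hoz, map_mul, show π₀ o = 1 from (QuotientGroup.eq_one_iff o).2 ho, one_mul]
    refine mem_center_iff.2 fun g => ?_
    obtain ⟨g, rfl⟩ := QuotientGroup.mk'_surjective _ g
    rw [← map_mul, ← map_mul, mem_center_iff.1 (hZ'c hz) g]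
  let f : X →* center (X ⧸ Cfsg.oddCore X) := MonoidHom.mk' (fun x => ⟨π₀ (c x), hcen x⟩) fun x y =>
    Subtype.ext (by
      show π₀ (c (x * y)) = π₀ (c x) * π₀ (c y)
      rw [show c (x * y) = x * c y * x⁻¹ * c x from Subtype.ext (by
          show ⁅((x : J) * y), b⁆ = x * ⁅(y : J), b⁆ * (x : J)⁻¹ * ⁅(x : J), b⁆
          simp only [commutatorElement_def]; group),
        map_mul, map_mul, map_mul, mem_center_iff.1 (hcen y) (π₀ x), map_inv, mul_inv_cancel_right,
        mem_center_iff.1 (hcen x) (π₀ (c y))])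
  haveI : Group.IsSolvable (center (X ⧸ Cfsg.oddCore X)) := Group.isSolvable_of_comm fun a b => mul_comm' a b
  have h1 : π₀ (c ⟨x, hx⟩) = 1 := congrArg Subtype.val (eq_one_of_perfect (perfect_top hX) f ⟨x, hx⟩)
  exact ⟨c ⟨x, hx⟩, (QuotientGroup.eq_one_iff _).1 h1, rfl⟩

/-- A part containing only central elements of a perfect subgroup centralises it modulo the odd core. -/
theorem kill (hcp : CommPair.Stmt.{u}) {G : Type u} [Group G] [Finite G] {T X B : Subgroup G}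
    (hX : ⁅X, X⁆ = X) (hB : Part T (X ⊔ B) B) (hn : B ≤ normalizer (X : Set G))
    (hZ : ∀ z ∈ B, z ∈ X → ∀ x ∈ X, Commute z x) : ∀ x ∈ X, ∀ b ∈ B, ⁅x, b⁆ ∈ core X := by
  intro x hx b hb
  set J := X ⊔ B
  obtain ⟨P, hP⟩ := hB.stronglyClosed
  haveI : (X.subgroupOf J).Normal := normal_subgroupOf_of_le_normalizer (sup_le le_normalizer hn)
  have hgen : X.subgroupOf J ⊔ B.subgroupOf J = ⊤ := by
    rw [← subgroupOf_sup le_sup_left le_sup_right, subgroupOf_self]
  have hperf : ⁅X.subgroupOf J, X.subgroupOf J⁆ = X.subgroupOf J := by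
    refine map_injective J.subtype_injective ?_
    rw [map_commutator, map_subgroupOf_eq_of_le le_sup_left, hX]
  have h := kill_top hcp P hP (fun z hz hzX w hw => Subtype.ext (hZ z hz hzX w hw).eq) hgen hperf
    ⟨x, mem_sup_left hx⟩ hx ⟨b, mem_sup_right hb⟩ hb
  have hle : (core (X.subgroupOf J)).map J.subtype ≤ core X := by
    refine le_core ((map_mono (core_le _)).trans (map_comap_le _ _)) ?_ ?_
    · have h2 := (map_mono (f := J.subtype) (ClosedAbelian.core_normalized (X.subgroupOf J))).trans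
        (le_normalizer_map _)
      rwa [map_subgroupOf_eq_of_le le_sup_left] at h2
    · rw [card_subtype]
      exact ClosedAbelian.core_odd _
  exact hle ⟨_, h, rfl⟩

end Cfsg.Agent.ClosedCent
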