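import Cfsg.Agent.Lib.Gold1169.Kind
import Cfsg.Agent.Lib.RankOneW.Mate
import Cfsg.Agent.Lib.ClosedCent.Basic

/-!
A perfect group of automorphisms of a simple group with abelian Sylow 2-subgroups or a strongly embedded
subgroup which keeps a Sylow 2-subgroup and fixes its involutions fixes it.
-/

set_option autoImplicit false
set_option linter.unusedSectionVars false
set_option linter.style.haveILetI false

namespace Cfsg.Agent.ClosedCent

set_option maxHeartbeats 400000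

open MulAction
open Cfsg.Agent.RankOne

open scoped Pointwise commutatorElement

universe u

/-- The automorphisms of a cyclic group commute. -/
theorem isSolvable_mulAut {C : Type u} [Group C] [IsCyclic C] : Group.IsSolvable (MulAut C) :=
  Group.isSolvable_of_comm fun φ ψ => MulEquiv.ext fun g => by
    obtain ⟨m, hm⟩ := MonoidHom.map_cyclic φ.toMonoidHom
    obtain ⟨n, hn⟩ := MonoidHom.map_cyclic ψ.toMonoidHom
    have e₁ : ∀ y, φ y = y ^ m := hm
    have e₂ : ∀ y, ψ y = y ^ n := hn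
    simp only [MulAut.mul_apply, e₁, e₂, ← zpow_mul, mul_comm]

variable {K : Type u} {Ω : Type u} [Group K] [MulAction K Ω] {a : Ω} {t : K} {Q : Subgroup K}
variable [Finite K] [FaithfulSMul K Ω] (hS : Cfsg.IsRankOneSetup K Ω a t Q)
  (h2 : ∃ x y : K, x ≠ 1 ∧ y ≠ 1 ∧ x ≠ y ∧ x * x = 1 ∧ y * y = 1 ∧ x * y = y * x)
include hS h2

local notation "Z" => invSub hS h2

variable {X : Type u} [Group X] [Finite X] (f : X →* MulAut K) (hP : IsPGroup 2 Q)
  (hfZ : ∀ (x : X) (z : K), z ∈ invSub hS h2 → f x z = z) (hfQ : ∀ (x : X) (y : K), y ∈ Q → f x y ∈ Q)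

include hfZ in
/-- Trivial modulo the involutions, hence trivial. -/
theorem fix_of_mod (hX : ⁅(⊤ : Subgroup X), (⊤ : Subgroup X)⁆ = ⊤)
    (h : ∀ x, ∀ y ∈ Q, f x y * y⁻¹ ∈ Z) (x : X) {y : K} (hy : y ∈ Q) : f x y = y := by
  have hc : ∀ p ∈ Z, ∀ q ∈ Z, p * q = q * p := fun p hp q hq => invSub_comm hS h2 hp (invSub_le_Q hS h2 hq)
  let δ : X →* (Z : Subgroup K) := MonoidHom.mk' (fun x => ⟨f x y * y⁻¹, h x y hy⟩) fun x x' => Subtype.ext (by
    show f (x * x') y * y⁻¹ = f x y * y⁻¹ * (f x' y * y⁻¹)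
    rw [hc _ (h x y hy) _ (h x' y hy)]
    have e := hfZ x _ (h x' y hy)
    calc f (x * x') y * y⁻¹ = f x (f x' y * y⁻¹ * y) * y⁻¹ := by
          rw [inv_mul_cancel_right, map_mul f, MulAut.mul_apply]
      _ = f x' y * y⁻¹ * (f x y * y⁻¹) := by rw [map_mul (f x) (f x' y * y⁻¹) y, e, mul_assoc])
  haveI : Group.IsSolvable (Z : Subgroup K) :=
    Group.isSolvable_of_comm fun p q => Subtype.ext (hc _ p.2 _ q.2)
  exact mul_inv_eq_one.1 (congrArg Subtype.val (eq_one_of_perfect hX δ x))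

include hP in
/-- Equal squares mean equal classes when `|Q| = |P|²`. -/
theorem mem_of_sq_eq (hc : Nat.card Q = Nat.card Z ^ 2) {x y : K} (hx : x ∈ Q) (hy : y ∈ Q)
    (hxy : x * x = y * y) : x * y⁻¹ ∈ Z := by
  by_cases hxZ : x ∈ Z
  · rw [invSub_sq hS h2 hxZ, eq_comm] at hxy
    exact mul_mem hxZ (inv_mem (mem_invSub_of_sq hS h2 hy hxy))
  by_cases hyZ : y ∈ Z
  · rw [invSub_sq hS h2 hyZ] at hxy
    exact absurd (mem_invSub_of_sq hS h2 hx hxy) hxZ
  obtain ⟨k, hk, p, hp, rfl⟩ := Gold1169.KindPf.trans_mod hS h2 hc hx hxZ hy hyZ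
  have hkQ : k * x * k⁻¹ ∈ Q := hS.conj_mem k (Subgroup.mem_inf.1 hk.1).1 x hx
  have h1 : k * (x * x) * k⁻¹ = x * x := by
    refine Eq.trans ?_ hxy.symm
    calc k * (x * x) * k⁻¹ = k * x * k⁻¹ * (k * x * k⁻¹) * (p * p) := by
          rw [invSub_sq hS h2 hp]; group
      _ = k * x * k⁻¹ * ((k * x * k⁻¹) * p) * p := by group
      _ = k * x * k⁻¹ * (p * (k * x * k⁻¹)) * p := by rw [invSub_comm hS h2 hp hkQ]
      _ = _ := by group
  have hk1 : k = 1 := by
    by_contra hk1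
    have h5 : x * x ∈ Q ⊓ Subgroup.centralizer {k} := Subgroup.mem_inf.2 ⟨mul_mem hx hx,
      Subgroup.mem_centralizer_singleton_iff.2 (mul_inv_eq_iff_eq_mul.1 h1).symm⟩
    rw [inverted_fpf hS hk hk1, Subgroup.mem_bot] at h5
    exact hxZ (mem_invSub_of_sq hS h2 hx h5)
  rw [hk1, one_mul, inv_one, mul_one, mul_inv_rev, ← mul_assoc, ← invSub_comm hS h2 (inv_mem hp) hx,
    mul_inv_cancel_right]
  exact inv_mem hp

include hfZ hfQ in
/-- In the cube case the fixed-point-free element is moved only modulo `Q`. -/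
theorem exists_image_w (hC : IsCube a t Q) (hX : ⁅(⊤ : Subgroup X), (⊤ : Subgroup X)⁆ = ⊤) {w : K}
    (hw : w ∈ twoStab a t) (hwz : ∀ z ∈ Z, w * z = z * w) (x : X) : ∃ q ∈ Q, f x w = q * w := by
  have hW := wSub_ne_bot hS h2 hC
  obtain ⟨ω, hω⟩ := outside_nonempty hS h2 hC (rInvol_of_cube hS h2 hC hW)
  obtain ⟨hcyc, -⟩ := wSub_cyclic hS h2 hC (rInvol_of_cube hS h2 hC hW) hω hW
  set C := Subgroup.centralizer ((Z : Subgroup K) : Set K)
  have hQC : Q ≤ C := fun q hq => Subgroup.mem_centralizer_iff.2 fun z hz => invSub_comm hS h2 hz hq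
  have hCa : ∀ g ∈ C, g • a = a := fun g hg => by
    obtain ⟨z, hz, hz1⟩ := Gold1169.KindPf.exists_ne_Z hS h2
    exact fixed_of_commute hS (z := z) ⟨hz1, invSub_sq hS h2 hz⟩ (Gold1169.KindPf.smul_a_Z hS h2 hz)
      (Subgroup.mem_centralizer_iff.1 hg z hz)
  haveI hn : (Q.subgroupOf C).Normal := ⟨fun q hq g => Subgroup.mem_subgroupOf.2
    (hS.conj_mem (g : K) (mem_stabilizer_iff.2 (hCa g g.2)) q (Subgroup.mem_subgroupOf.1 hq))⟩
  have hWC : wSub a t ≤ C := fun d hd => Subgroup.mem_centralizer_iff.2 fun z hz =>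
    (((mem_wSub hS h2).1 hd).2 z hz).symm
  haveI : IsCyclic (C ⧸ Q.subgroupOf C) := by
    haveI := hcyc
    refine isCyclic_of_surjective ((QuotientGroup.mk' (Q.subgroupOf C)).comp (Subgroup.inclusion hWC)) fun c => ?_
    obtain ⟨⟨g, hg⟩, rfl⟩ := QuotientGroup.mk'_surjective _ c
    obtain ⟨q, hq, d, hd, rfl⟩ := exists_qd hS (mem_stabilizer_iff.2 (hCa g hg))
    have hdC : d ∈ C := by simpa using mul_mem (inv_mem (hQC hq)) hg
    refine ⟨⟨d, (mem_wSub hS h2).2 ⟨hd, fun z hz => (Subgroup.mem_centralizer_iff.1 hdC z hz).symm⟩⟩, ?_⟩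
    show ((⟨d, hdC⟩ : C) : C ⧸ Q.subgroupOf C) = ((⟨q * d, hg⟩ : C) : C ⧸ Q.subgroupOf C)
    rw [QuotientGroup.eq, Subgroup.mem_subgroupOf]
    show d⁻¹ * (q * d) ∈ Q
    have := hS.conj_mem d⁻¹ (inv_mem (Subgroup.mem_inf.1 hd).1) q hq
    simpa [mul_assoc] using this
  haveI := isSolvable_mulAut (C := C ⧸ Q.subgroupOf C)
  have hfC : ∀ x, ∀ g ∈ C, f x g ∈ C := fun x g hg => Subgroup.mem_centralizer_iff.2 fun z hz => by
    have e := congrArg (f x) (Subgroup.mem_centralizer_iff.1 hg z hz)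
    rw [map_mul (f x), map_mul (f x), hfZ x z hz] at e
    exact e
  let e : X → MulAut C := fun x =>
    { toFun := fun g => ⟨f x (g : K), hfC x g g.2⟩
      invFun := fun g => ⟨f x⁻¹ (g : K), hfC x⁻¹ g g.2⟩
      left_inv := fun (g : C) => Subtype.ext (by simp)
      right_inv := fun (g : C) => Subtype.ext (by simp)
      map_mul' := fun g h => Subtype.ext (map_mul (f x) (g : K) (h : K)) }
  have he : ∀ x, (Q.subgroupOf C).map (e x).toMonoidHom = Q.subgroupOf C := fun x =>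
    Subgroup.eq_of_le_of_card_ge (by
      rintro _ ⟨g, hg, rfl⟩
      exact Subgroup.mem_subgroupOf.2 (hfQ x g (Subgroup.mem_subgroupOf.1 hg)))
      (Subgroup.card_map_of_injective (e x).injective).ge
  let φ : X →* MulAut (C ⧸ Q.subgroupOf C) :=
    MonoidHom.mk' (fun x => QuotientGroup.congr _ _ (e x) (he x)) fun x x' => MulEquiv.ext fun c => by
      induction c using QuotientGroup.induction_on with
      | _ g =>
        show ((e (x * x') g : C) : C ⧸ Q.subgroupOf C) = ((e x (e x' g) : C) : C ⧸ Q.subgroupOf C)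
        refine congrArg _ (Subtype.ext ?_)
        show f (x * x') g = f x (f x' g)
        rw [map_mul, MulAut.mul_apply]
  have hwC : w ∈ C := Subgroup.mem_centralizer_iff.2 fun z hz => (hwz z hz).symm
  have h := DFunLike.congr_fun (eq_one_of_perfect hX φ x) ((⟨w, hwC⟩ : C) : C ⧸ Q.subgroupOf C)
  have h' : ((⟨w, hwC⟩ : C) : C ⧸ Q.subgroupOf C) = ((e x ⟨w, hwC⟩ : C) : C ⧸ Q.subgroupOf C) := h.symm
  rw [QuotientGroup.eq, Subgroup.mem_subgroupOf] at h'
  have h'' : w⁻¹ * f x w ∈ Q := h'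
  refine ⟨w * (w⁻¹ * f x w) * w⁻¹, hS.conj_mem w (Subgroup.mem_inf.1 hw).1 _ h'', by group⟩

include hP hfZ hfQ in
/-- The conclusion in the set-up. -/
theorem fix_setup (hX : ⁅(⊤ : Subgroup X), (⊤ : Subgroup X)⁆ = ⊤) (x : X) {y : K} (hy : y ∈ Q) : f x y = y := by
  classical
  refine fix_of_mod hS h2 f hfZ hX (fun x y hy => ?_) x hy
  obtain ⟨hsq, hcm⟩ := Gold1169.KindPf.sq_comm_mem hS h2 hP
  rcases Gold1169.KindPf.cases_Q hS h2 hP with hall | ⟨-, hc | hC⟩
  · exact mul_mem (hall _ (hfQ x y hy)) (inv_mem (hall y hy))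
  · refine mem_of_sq_eq hS h2 hP hc (hfQ x y hy) hy ?_
    rw [← map_mul, hfZ x _ (hsq y hy)]
  obtain ⟨w, hw, hwz, hfpf⟩ := Gold1169.KindPf.exists_fpf_cube hS h2 hC
  have hwQ : ∀ y ∈ Q, w * y * w⁻¹ ∈ Q := hS.conj_mem w (Subgroup.mem_inf.1 hw).1
  have hzc : ∀ z ∈ Z, ∀ y ∈ Q, z * y = y * z := fun z hz y hy => invSub_comm hS h2 hz hy
  let X₀ : Subgroup X :=
    { carrier := {x | ∀ y ∈ Q, f x y * y⁻¹ ∈ Z}
      one_mem' := fun y _ => by simp
      mul_mem' := fun {x x'} hx hx' y hy => by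
        rw [map_mul, MulAut.mul_apply, show f x (f x' y) * y⁻¹ = f x (f x' y) * (f x' y)⁻¹ * (f x' y * y⁻¹) by group]
        exact mul_mem (hx _ (hfQ x' y hy)) (hx' y hy)
      inv_mem' := fun {x} hx y hy => by
        have h := hx _ (hfQ x⁻¹ y hy)
        rw [← MulAut.mul_apply, ← map_mul, mul_inv_cancel, map_one, MulAut.one_apply] at h
        simpa using inv_mem h }
  haveI : X₀.Normal := ⟨fun x hx g y hy => by
    have h := hx _ (hfQ g⁻¹ y hy)
    have h' : f g (f x (f g⁻¹ y) * (f g⁻¹ y)⁻¹) = f x (f g⁻¹ y) * (f g⁻¹ y)⁻¹ := hfZ g _ h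
    rw [map_mul (f g), map_inv (f g)] at h'
    have h3 : f g (f g⁻¹ y) = y := by rw [← MulAut.mul_apply, ← map_mul, mul_inv_cancel, map_one, MulAut.one_apply]
    rw [h3] at h'
    rw [map_mul, map_mul, MulAut.mul_apply, MulAut.mul_apply, h']
    exact h⟩
  have hinvol : ∀ u : X, u * u ∈ X₀ → u ∈ X₀ := by
    intro u hu y hy
    set d := f u y * y⁻¹ with hd
    have hdQ : d ∈ Q := mul_mem (hfQ u y hy) (inv_mem hy)
    have hdF : f u d * d⁻¹ ∈ Z := by
      have h1 := hu y hy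
      rw [map_mul, MulAut.mul_apply] at h1
      have h2' : f u d * d⁻¹ = f u (f u y) * y⁻¹ * (d * d)⁻¹ := by
        rw [hd, map_mul (f u), map_inv]; group
      rw [h2']
      exact mul_mem h1 (inv_mem (hsq d hdQ))
    set e := w * d * w⁻¹ with he
    have heQ : e ∈ Q := hwQ d hdQ
    have heF : f u e * e⁻¹ ∈ Z := by
      obtain ⟨q, hq, hqw⟩ := exists_image_w hS h2 f hfZ hfQ hC hX hw hwz u
      set p := f u d * d⁻¹ with hp
      have h3 : f u e = q * (p * e) * q⁻¹ := by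
        rw [he, map_mul (f u), map_mul (f u), map_inv, hqw, show f u d = p * d by rw [hp]; group]
        calc q * w * (p * d) * (q * w)⁻¹ = q * (w * p * d * w⁻¹) * q⁻¹ := by group
          _ = q * (p * w * d * w⁻¹) * q⁻¹ := by rw [hwz p hdF]
          _ = _ := by group
      rw [h3, show q * (p * e) * q⁻¹ * e⁻¹ = q * p * q⁻¹ * (q * e * q⁻¹ * e⁻¹) by group,
        show q * p * q⁻¹ = p by rw [← hzc p hdF q hq, mul_inv_cancel_right]]
      exact mul_mem hdF (hcm q hq e heQ)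
    have hde : d * e = e * d := by
      have hzl : ∀ z ∈ Z, ∀ p ∈ Q, ∀ q ∈ Q, z * p * q * (z * p)⁻¹ * q⁻¹ = p * q * p⁻¹ * q⁻¹ :=
        fun z hz p hp q hq => by
          calc z * p * q * (z * p)⁻¹ * q⁻¹ = z * (p * q * p⁻¹) * (z⁻¹ * q⁻¹) := by group
            _ = (p * q * p⁻¹) * z * (z⁻¹ * q⁻¹) := by rw [hzc z hz _ (mul_mem (mul_mem hp hq) (inv_mem hp))]
            _ = _ := by group
      have hzr : ∀ z ∈ Z, ∀ p ∈ Q, ∀ q ∈ Q, p * (z * q) * p⁻¹ * (z * q)⁻¹ = p * q * p⁻¹ * q⁻¹ :=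
        fun z hz p hp q hq => by
          calc p * (z * q) * p⁻¹ * (z * q)⁻¹ = p * z * (q * p⁻¹ * q⁻¹) * z⁻¹ := by group
            _ = z * (p * (q * p⁻¹ * q⁻¹)) * z⁻¹ := by rw [← hzc z hz p hp]; group
            _ = (p * (q * p⁻¹ * q⁻¹)) * z * z⁻¹ := by
              rw [hzc z hz _ (mul_mem hp (mul_mem (mul_mem hq (inv_mem hp)) (inv_mem hq)))]
            _ = _ := by group
      set c₀ := y * e * y⁻¹ * e⁻¹ with hc₀
      have hc₀Z : c₀ ∈ Z := hcm y hy e heQ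
      have h4 := hfZ u c₀ hc₀Z
      rw [hc₀, map_mul (f u), map_mul (f u), map_mul (f u), map_inv, map_inv, show f u y = d * y by rw [hd]; group,
        show f u e = f u e * e⁻¹ * e by group, hzr _ heF _ (mul_mem hdQ hy) e heQ, ← hc₀,
        show d * y * e * (d * y)⁻¹ * e⁻¹ = d * c₀ * d⁻¹ * (d * e * d⁻¹ * e⁻¹) by rw [hc₀]; group,
        ← hzc c₀ hc₀Z d hdQ, mul_inv_cancel_right, mul_eq_left] at h4
      exact mul_inv_eq_iff_eq_mul.1 (mul_inv_eq_one.1 h4)
    have he2 : e * e = d * d := by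
      rw [he, show w * d * w⁻¹ * (w * d * w⁻¹) = w * (d * d) * w⁻¹ by group, hwz _ (hsq d hdQ),
        mul_inv_cancel_right]
    have h5 : d⁻¹ * e ∈ Z := by
      refine mem_invSub_of_sq hS h2 (mul_mem (inv_mem hdQ) heQ) ?_
      rw [(show Commute d⁻¹ e from (show Commute d e from hde).inv_left).symm.mul_mul_mul_comm, he2]
      group
    refine hfpf d hdQ ?_
    rw [← he, show e * d⁻¹ = d * (d⁻¹ * e) * d⁻¹ by group, ← hzc _ h5 d hdQ, mul_inv_cancel_right]
    exact h5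
  have hodd : Odd (Nat.card (X ⧸ X₀)) := by
    refine Nat.not_even_iff_odd.1 fun he => ?_
    obtain ⟨q, hq⟩ := exists_prime_orderOf_dvd_card' 2 he.two_dvd
    obtain ⟨u, rfl⟩ := QuotientGroup.mk'_surjective X₀ q
    have h1 : u * u ∈ X₀ := (QuotientGroup.eq_one_iff _).1 (by
      have := pow_orderOf_eq_one (QuotientGroup.mk' X₀ u)
      rwa [hq, pow_two, ← map_mul] at this)
    rw [show QuotientGroup.mk' X₀ u = 1 from (QuotientGroup.eq_one_iff u).2 (hinvol u h1), orderOf_one] at hq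
    omega
  haveI := solvable_of_odd hodd
  exact (QuotientGroup.eq_one_iff x).1 (eq_one_of_perfect hX (QuotientGroup.mk' X₀) x) y hy

end Cfsg.Agent.ClosedCent
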