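import Cfsg.Agent.Lib.GoldGroups.Naming
import Cfsg.Agent.Lib.Walter4.Rank4
import Cfsg.Agent.Lib.Functors.ClosedZJ
import Cfsg.Agent.Lib.LocalEven.Large
import Cfsg.Agent.Lib.ClosedCent.Fused
import Cfsg.Agent.Lib.ClosedCent.LeafTriv

/-!
An elementary abelian strongly closed subgroup inside a simple normal subgroup with trivial centraliser: the
perfect part of its centraliser is trivial.
-/

set_option autoImplicit false
set_option linter.unusedSectionVars false
set_option linter.style.haveILetI false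

namespace Cfsg.Agent.ClosedCent

open Subgroup
open Cfsg.Agent.ClosedAbelian (TwoEl)
open Cfsg.Agent.GoldGroups (ClosedAbelianSimple)
open scoped commutatorElement Pointwise

universe u

/-- A perfect group of automorphisms keeping a Sylow 2-subgroup and fixing its involutions fixes it. -/
theorem fix_sylow {K : Type u} [Group K] [Finite K] [IsSimpleGroup K]
    (hK : Walter4.Good K ∨ ∃ H : Subgroup K, Cfsg.IsStronglyEmbedded H) (T : Sylow 2 K) {X : Type u} [Group X]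
    [Finite X] (hX : ⁅(⊤ : Subgroup X), (⊤ : Subgroup X)⁆ = ⊤) (f : X →* MulAut K)
    (hf1 : ∀ (x : X) (y : K), y ∈ (T : Subgroup K) → y * y = 1 → f x y = y)
    (hfT : ∀ (x : X) (y : K), y ∈ (T : Subgroup K) → f x y ∈ (T : Subgroup K)) (x : X) {y : K}
    (hy : y ∈ (T : Subgroup K)) : f x y = y := by
  haveI : Fact (Nat.Prime 2) := ⟨Nat.prime_two⟩
  rcases hK with hG | ⟨H, hH⟩
  · obtain ⟨hsq, -⟩ := Walter4.kindStmt K inferInstance hG T
    exact hf1 x y hy (hsq y hy)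
  obtain ⟨Q₀, hQ₀⟩ := SEMain.exists_reg_simple SEMain.stmt hH
  obtain ⟨S, hS0⟩ := hQ₀.exists_sylow hH
  obtain ⟨g, hg⟩ := MulAction.exists_smul_eq K S T
  set H' := MulAction.stabilizer K (g • ((1 : K) : K ⧸ H)) with hH'def
  have hH' : Cfsg.IsStronglyEmbedded H' := SEMain.se_stab hH _
  have hTH : (T : Subgroup K) ≤ H' := by
    rw [← hg, Sylow.coe_subgroup_smul, hH'def, MulAction.stabilizer_smul_eq_stabilizer_map_conj,
      MulAction.stabilizer_quotient, hS0]
    exact Subgroup.map_mono hQ₀.le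
  obtain ⟨Q, hQ⟩ := SEMain.exists_reg_simple SEMain.stmt hH'
  have hTQ : (T : Subgroup K) = Q := by
    refine (T.is_maximal' hQ.two fun z hz => ?_).symm
    obtain ⟨k, hk⟩ := T.isPGroup' ⟨z, hz⟩
    obtain ⟨i, -, hi⟩ := (Nat.dvd_prime_pow Nat.prime_two).1
      (orderOf_dvd_of_pow_eq_one (congrArg Subtype.val hk : z ^ 2 ^ k = 1))
    exact hQ.mem_of_two hH' (hTH hz) ⟨i, hi⟩
  haveI := RankOne.faithful_of_simple hH'.1
  obtain ⟨t, hSt⟩ := RankOne.exists_setup hH' hQ.le hQ.norm hQ.trans hQ.reg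
  have h2 := RankOne.exists_commuting_of_simple hH'
  exact fix_setup hSt h2 f hQ.two
    (fun x z hz => hf1 x z (hTQ ▸ RankOne.invSub_le_Q hSt h2 hz) (RankOne.invSub_sq hSt h2 hz))
    (fun x z hz => hTQ ▸ hfT x z (hTQ.symm ▸ hz)) hX x (hTQ ▸ hy)

variable {G : Type u} [Group G] [Finite G] {S : Sylow 2 G} {T M : Subgroup G}

/-- An element with the same action on a subgroup as `h`. -/
theorem pow_act {h h' : G} {Y : Subgroup G} (hn : ∀ y ∈ Y, h * y * h⁻¹ ∈ Y)
    (he : ∀ y ∈ Y, h' * y * h'⁻¹ = h * y * h⁻¹) (i : ℕ) :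
    ∀ y ∈ Y, h' ^ i * y * (h' ^ i)⁻¹ = h ^ i * y * (h ^ i)⁻¹ := by
  induction i with
  | zero => simp
  | succ i ih =>
    intro y hy
    calc h' ^ (i + 1) * y * (h' ^ (i + 1))⁻¹ = h' ^ i * (h' * y * h'⁻¹) * (h' ^ i)⁻¹ := by
          rw [pow_succ]; group
      _ = h ^ i * (h * y * h⁻¹) * (h ^ i)⁻¹ := by rw [he y hy, ih _ (hn y hy)]
      _ = _ := by rw [pow_succ]; group

/-- The leaf. -/
theorem leaf (hC : ClosedAbelianSimple.{u}) (hT : Cfsg.IsStronglyClosed T (S : Subgroup G)) [M.Normal]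
    (hMs : IsSimpleGroup M) (hnc : ¬ IsMulCommutative M) (hMc : centralizer (M : Set G) = ⊥) (hTM : T ≤ M)
    (hT1 : T ≠ ⊥) (hcomm : ∀ x ∈ T, ∀ y ∈ T, x * y = y * x) (hsq : ∀ x ∈ T, x * x = 1) :
    per (centralizer (T : Set G)) = ⊥ := by
  haveI : Fact (Nat.Prime 2) := ⟨Nat.prime_two⟩
  haveI := hMs
  set TM := (S : Subgroup G) ⊓ M
  have hTTM : T ≤ TM := le_inf hT.1 hTM
  have hTM2 : IsPGroup 2 TM := S.isPGroup'.to_le inf_le_left
  -- the Sylow subgroup of `M`
  have hTMmax : ∀ Q ≤ M, IsPGroup 2 Q → TM ≤ Q → Q = TM := by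
    intro Q hQM hQ hle
    obtain ⟨k, hk⟩ := SylowSplit.exists_conj_le S hQ
    have hle' : Q.map (MulAut.conj k).toMonoidHom ≤ TM := by
      rintro _ ⟨q, hq, rfl⟩
      exact mem_inf.2 ⟨hk q hq, ‹M.Normal›.conj_mem q (hQM hq) k⟩
    have hcard := card_le_of_le hle'
    rw [LEBasic.card_map_conj] at hcard
    exact (eq_of_le_of_card_ge hle hcard).symm
  obtain ⟨SM, hSM⟩ : ∃ SM : Sylow 2 M, (SM : Subgroup M) = TM.subgroupOf M := by
    obtain ⟨SM, hle⟩ := (hTM2.comap_subtype (K := M)).exists_le_sylow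
    refine ⟨SM, ?_⟩
    have h := hTMmax _ (map_subtype_le (SM : Subgroup M)) (SM.2.map M.subtype) fun y hy =>
      ⟨⟨y, (mem_inf.1 hy).2⟩, hle (mem_subgroupOf.2 hy), rfl⟩
    rw [← h, ← comap_subtype, comap_map_eq_self_of_injective M.subtype_injective]
  set T' := T.subgroupOf M with hT'
  have hT'SM : Cfsg.IsStronglyClosed T' (SM : Subgroup M) := by
    refine ⟨fun x hx => by rw [hSM]; exact mem_subgroupOf.2 (hTTM (mem_subgroupOf.1 hx)), fun x hx g hg => ?_⟩
    rw [hSM, mem_subgroupOf] at hg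
    exact mem_subgroupOf.2 (hT.2 (x : G) (mem_subgroupOf.1 hx) (g : G) (mem_inf.1 hg).1)
  have hT'1 : T' ≠ ⊥ := fun e => hT1 (by
    rw [← map_subgroupOf_eq_of_le hTM, ← hT', e, Subgroup.map_bot])
  have hT'c : IsMulCommutative T' := ⟨⟨fun a b => Subtype.ext (Subtype.ext
    (hcomm _ (mem_subgroupOf.1 a.2) _ (mem_subgroupOf.1 b.2)))⟩⟩
  have hK : Walter4.Good M ∨ ∃ H : Subgroup M, Cfsg.IsStronglyEmbedded H := by
    rcases hC M SM T' hT'1 hT'c hT'SM with h | h
    · refine Or.inl (Walter4.good M inferInstance hnc fun P => ⟨⟨fun a b => Subtype.ext ?_⟩⟩)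
      obtain ⟨g, rfl⟩ := MulAction.exists_smul_eq M SM P
      obtain ⟨a', ha', hae⟩ := a.2
      obtain ⟨b', hb', hbe⟩ := b.2
      show (a : M) * b = b * a
      rw [← hae, ← hbe]
      have e : a' * b' = b' * a' := congrArg Subtype.val (h.is_comm.comm ⟨a', ha'⟩ ⟨b', hb'⟩)
      exact (map_mul (MulAut.conj g) a' b').symm.trans ((congrArg _ e).trans (map_mul (MulAut.conj g) b' a'))
    · exact Or.inr h
  obtain ⟨P, hF⟩ := Gold1169.kindStmt M inferInstance hnc hK SM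
  obtain ⟨h, hhN, hhodd, htr, -, -⟩ := hF.reg
  have hT'P : T' ≤ P := fun x hx => (hF.mem_iff x (hT'SM.1 hx)).1 (Subtype.ext (hsq _ (mem_subgroupOf.1 hx)))
  obtain ⟨t₀, ht₀, ht₀1⟩ := T'.bot_or_exists_ne_one.resolve_left hT'1
  have hPT' : P ≤ T' := by
    intro y hy
    by_cases hy1 : y = 1
    · rw [hy1]; exact one_mem _
    obtain ⟨i, hi⟩ := htr t₀ (hT'P ht₀) ht₀1 y hy hy1
    have := hT'SM.2 t₀ ht₀ (h ^ i) (hi ▸ hF.le hy)
    rwa [hi] at this
  have hhTM : (h : G) ∈ normalizer (TM : Set G) := mem_normalizer_fintype fun y hy => by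
    have h1 : (⟨y, (mem_inf.1 hy).2⟩ : M) ∈ (SM : Subgroup M) := by rw [hSM]; exact mem_subgroupOf.2 hy
    have h3 := (mem_normalizer_iff.1 hhN _).1 h1
    rw [hSM, mem_subgroupOf] at h3
    exact h3
  have hhT : (h : G) ∈ normalizer (T : Set G) := mem_normalizer_fintype fun y hy =>
    hT.2 y hy h (mem_inf.1 ((mem_normalizer_iff.1 hhTM y).1 (hTTM hy))).1
  -- `T` is central in the Sylow subgroup of `M`
  have hcent : ∀ y ∈ T, ∀ x ∈ TM, Commute y x := by
    obtain ⟨z, hz, hz1⟩ := (T ⊓ ((S : Subgroup G) ⊓ centralizer ((S : Subgroup G) : Set G))).bot_or_exists_ne_one.resolve_left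
      (ClosedZJ.inf_ne_bot hT hT1 le_rfl)
    obtain ⟨hzT, hzS⟩ := mem_inf.1 hz
    intro y hy x hx
    by_cases hy1 : y = 1
    · rw [hy1]; exact Commute.one_left x
    obtain ⟨i, hi⟩ := htr ⟨z, hTM hzT⟩ (hT'P (mem_subgroupOf.2 hzT)) (fun e => hz1 (congrArg Subtype.val e))
      ⟨y, hTM hy⟩ (hT'P (mem_subgroupOf.2 hy)) (fun e => hy1 (congrArg Subtype.val e))
    have hi' : (h : G) ^ i * z * ((h : G) ^ i)⁻¹ = y := by simpa using congrArg Subtype.val hi
    have hx' := (mem_normalizer_iff.1 (inv_mem (pow_mem hhTM i)) x).1 hx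
    have hc : Commute z (((h : G) ^ i)⁻¹ * x * ((h : G) ^ i)⁻¹⁻¹) :=
      (mem_centralizer_iff.1 (mem_inf.1 hzS).2 _ (mem_inf.1 hx').1).symm
    have h3 := hc.map (MulAut.conj ((h : G) ^ i)).toMonoidHom
    have h4 : (MulAut.conj ((h : G) ^ i)).toMonoidHom (((h : G) ^ i)⁻¹ * x * ((h : G) ^ i)⁻¹⁻¹) = x := by
      show (h : G) ^ i * (((h : G) ^ i)⁻¹ * x * ((h : G) ^ i)⁻¹⁻¹) * ((h : G) ^ i)⁻¹ = x
      group
    rw [h4] at h3
    rw [← hi']
    exact h3
  set C := centralizer (T : Set G)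
  set CM := M ⊓ C
  set A := C ⊓ normalizer (TM : Set G)
  set L₂ := per A
  have hTMC : TM ≤ CM := le_inf inf_le_right fun x hx => mem_centralizer_iff.2 fun y hy => (hcent y hy x hx).eq
  have hCn : C ≤ normalizer (CM : Set G) :=
    (le_inf (le_top.trans (normalizer_eq_top (H := M)).ge) le_normalizer).trans inf_normalizer_le_normalizer_inf
  have hCle : C ≤ CM ⊔ A := by
    intro c hc
    obtain ⟨m, hm, T₁, hT₁, hle, hT₁CM, hmT⟩ := ClosedAbelian.exists_conj_over hTM2 hTMC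
      (hTM2.map (MulAut.conj c).toMonoidHom)
      (fun y ⟨z, hz, hzy⟩ => hzy ▸ (mem_normalizer_iff.1 (hCn hc) z).1 (hTMC hz))
    rw [hTMmax T₁ (hT₁CM.trans inf_le_left) hT₁ hle] at hmT
    have hmc : m * c ∈ A := mem_inf.2 ⟨mul_mem (mem_inf.1 hm).2 hc, mem_normalizer_fintype fun y hy => by
      have h1 := hmT (c * y * c⁻¹) ⟨y, hy, rfl⟩
      show m * c * y * (m * c)⁻¹ ∈ TM
      rwa [show m * c * y * (m * c)⁻¹ = m * (c * y * c⁻¹) * m⁻¹ by group]⟩
    simpa using mul_mem (mem_sup_left (T := A) (inv_mem hm)) (mem_sup_right (S := CM) hmc)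
  have hL : per C ≤ CM ⊔ L₂ := perfect_le_sup (perfect_per C) (inf_le_left.trans hCn) ((per_le C).trans hCle)
  haveI hCMsol : Group.IsSolvable CM := by
    haveI := hF.sol
    let i : CM →* centralizer (P : Set M) :=
      { toFun := fun x => ⟨⟨x, (mem_inf.1 x.2).1⟩, mem_centralizer_iff.2 fun p hp =>
          Subtype.ext (mem_centralizer_iff.1 (mem_inf.1 x.2).2 _ (mem_subgroupOf.1 (hPT' hp)))⟩
        map_one' := rfl
        map_mul' := fun _ _ => rfl }
    exact Group.isSolvable_of_isSolvable_injective (f := i) fun a b e =>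
      Subtype.ext (congrArg (fun w : centralizer (P : Set M) => ((w : M) : G)) e)
  -- it centralises the Sylow subgroup of `M`
  have hL₂TM : ∀ l ∈ L₂, ∀ y ∈ TM, Commute l y := by
    intro l hl y hy
    have hA : ∀ w : L₂, (w : G) ∈ C ∧ (w : G) ∈ normalizer (TM : Set G) := fun w => mem_inf.1 (per_le A w.2)
    have h1 := fix_sylow hK SM (perfect_top (perfect_per A)) ((MulAut.conjNormal).comp L₂.subtype)
      (fun w z hz hz2 => Subtype.ext (by
        rw [MonoidHom.comp_apply, MulAut.conjNormal_apply]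
        show (w : G) * z * (w : G)⁻¹ = z
        rw [← mem_centralizer_iff.1 (hA w).1 _ (mem_subgroupOf.1 (hPT' ((hF.mem_iff z hz).1 hz2))),
          mul_inv_cancel_right]))
      (fun w z hz => by
        rw [hSM, mem_subgroupOf, MonoidHom.comp_apply, MulAut.conjNormal_apply]
        rw [hSM, mem_subgroupOf] at hz
        exact (mem_normalizer_iff.1 (hA w).2 _).1 hz)
      ⟨l, hl⟩ (y := ⟨y, (mem_inf.1 hy).2⟩) (by rw [hSM]; exact mem_subgroupOf.2 hy)
    have h2 : l * y * l⁻¹ = y := by simpa [MulAut.conjNormal_apply] using congrArg Subtype.val h1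
    exact mul_inv_eq_iff_eq_mul.1 h2
  obtain ⟨Q₂⟩ : Nonempty (Sylow 2 L₂) := inferInstance
  set U := (Q₂ : Subgroup L₂).map L₂.subtype
  have hU2 : IsPGroup 2 U := Q₂.2.map _
  have hUL : U ≤ L₂ := map_subtype_le _
  have hUmax : ∀ Q ≤ L₂, IsPGroup 2 Q → U ≤ Q → Q ≤ U := fun Q hQ hQ2 hle => by
    have h := Q₂.is_maximal' (hQ2.comap_subtype (K := L₂)) fun y hy => mem_subgroupOf.2 (hle ⟨y, hy, rfl⟩)
    exact fun q hq => ⟨⟨q, hQ hq⟩, h.le (mem_subgroupOf.2 hq), rfl⟩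
  set U₀ := U ⊓ M
  have hU₀TM : U₀ ≤ TM := by
    have hn : TM ≤ normalizer (U₀ : Set G) := fun y hy => mem_normalizer_fintype fun z hz => by
      show y * z * y⁻¹ ∈ U₀
      rw [← (hL₂TM z (hUL (mem_inf.1 hz).1) y hy).eq, mul_inv_cancel_right]
      exact hz
    exact le_sup_left.trans (hTMmax (U₀ ⊔ TM) (sup_le inf_le_right inf_le_right)
      ((hU2.to_le inf_le_left).to_sup_of_normal_left' hTM2 hn) le_sup_right).le
  have hU₀c : ∀ l ∈ L₂, ∀ z ∈ U₀, Commute l z := fun l hl z hz => hL₂TM l hl z (hU₀TM hz)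
  -- the element acting on `U`
  have hhL : (h : G) ∈ normalizer (L₂ : Set G) :=
    normalizer_le_per A (inf_normalizer_le_normalizer_inf (mem_inf.2
      ⟨LELarge.normalizer_le_normalizer_centralizer T hhT, le_normalizer hhTM⟩))
  set R := L₂ ⊓ M
  have hRn : L₂ ≤ normalizer (R : Set G) :=
    (le_inf le_normalizer (le_top.trans (normalizer_eq_top (H := M)).ge)).trans inf_normalizer_le_normalizer_inf
  have hRU : U.map (MulAut.conj (h : G)).toMonoidHom ≤ R ⊔ U := by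
    rintro _ ⟨u, hu, rfl⟩
    show (h : G) * u * (h : G)⁻¹ ∈ R ⊔ U
    rw [show (h : G) * u * (h : G)⁻¹ = ⁅(h : G), u⁆ * u by simp [commutatorElement_def, mul_assoc]]
    refine mul_mem (mem_sup_left (mem_inf.2 ⟨?_, ?_⟩)) (mem_sup_right hu)
    · exact mul_mem ((mem_normalizer_iff.1 hhL u).1 (hUL hu)) (inv_mem (hUL hu))
    · rw [commutatorElement_def, show (h : G) * u * (h : G)⁻¹ * u⁻¹ = h * (u * (h : G)⁻¹ * u⁻¹) by group]
      exact mul_mem h.2 (‹M.Normal›.conj_mem _ (inv_mem h.2) u)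
  obtain ⟨c, hc, T₁, hT₁, hle, hT₁le, hcT⟩ := ClosedAbelian.exists_conj_over hU2
    (le_sup_right : U ≤ R ⊔ U) (hU2.map (MulAut.conj (h : G)).toMonoidHom) hRU
  obtain ⟨r, hr, v, hv, rfl⟩ := exists_mul (hUL.trans hRn) hc
  set r' := v⁻¹ * r * v with hr'
  have hr'R : r' ∈ R := by
    have := (mem_normalizer_iff.1 (hRn (inv_mem (hUL hv))) r).1 hr
    rwa [inv_inv] at this
  set g := r' * h with hg
  have hT₁U : T₁ ≤ U := hUmax T₁ (hT₁le.trans (sup_le inf_le_left hUL)) hT₁ hle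
  have hgU : g ∈ normalizer (U : Set G) := mem_normalizer_fintype fun u hu => by
    have h1 := hT₁U (hcT ((h : G) * u * (h : G)⁻¹) ⟨u, hu, rfl⟩)
    have h3 := mul_mem (mul_mem (inv_mem hv) h1) hv
    show g * u * g⁻¹ ∈ U
    rwa [show g * u * g⁻¹ = v⁻¹ * (r * v * ((h : G) * u * (h : G)⁻¹) * (r * v)⁻¹) * v by
      rw [hg, hr']; group]
  have hgM : g ∈ M := mul_mem (mem_inf.1 hr'R).2 h.2
  have hgact : ∀ y ∈ TM, g * y * g⁻¹ = (h : G) * y * (h : G)⁻¹ := fun y hy => by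
    rw [show g * y * g⁻¹ = r' * ((h : G) * y * (h : G)⁻¹) * r'⁻¹ by rw [hg]; group,
      (hL₂TM r' (mem_inf.1 hr'R).1 _ ((mem_normalizer_iff.1 hhTM y).1 hy)).eq, mul_inv_cancel_right]
  obtain ⟨a, m, hm, ham⟩ := Nat.exists_eq_two_pow_mul_odd (orderOf_pos g).ne'
  obtain ⟨e, he1, he0⟩ := Nat.chineseRemainder (n := orderOf (h : G)) (m := 2 ^ a)
    ((Nat.coprime_two_right.2 (by rwa [Subgroup.orderOf_coe])).pow_right a) 1 0
  set k := g ^ e with hk
  have hkh : ∀ y ∈ TM, k * y * k⁻¹ = (h : G) * y * (h : G)⁻¹ := fun y hy => by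
    rw [hk, pow_act (fun y hy => (mem_normalizer_iff.1 hhTM y).1 hy) hgact e y hy,
      show (h : G) ^ e = h from (pow_eq_pow_iff_modEq.2 he1).trans (pow_one _)]
  have hkU : k ∈ normalizer (U : Set G) := pow_mem hgU _
  -- it fixes nothing in `U₀`
  have hfix : ∀ z ∈ U₀, k * z * k⁻¹ = z → z = 1 := by
    intro z hz hzf
    by_contra hz1
    obtain ⟨j, hj⟩ := SylowSplit.two_elt_of_mem hU2 (mem_inf.1 hz).1
    obtain ⟨i, rfl⟩ := Nat.exists_eq_succ_of_ne_zero (n := j)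
      (fun e' => hz1 (orderOf_eq_one_iff.1 (by rw [hj, e', pow_zero])))
    set w := z ^ 2 ^ i with hw
    have hw2 : orderOf w = 2 := by
      rw [hw, orderOf_pow' _ (pow_ne_zero _ two_ne_zero), hj, Nat.gcd_eq_right (pow_dvd_pow 2 (Nat.le_succ i)),
        pow_succ, Nat.mul_div_cancel_left _ (pow_pos two_pos i)]
    have hwTM : w ∈ TM := pow_mem (hU₀TM hz) _
    have hwf : (h : G) * w * (h : G)⁻¹ = w := by rw [← hkh w hwTM, hw, ← conj_pow, hzf]
    set w' : M := ⟨w, (mem_inf.1 hwTM).2⟩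
    have hw'P : w' ∈ P := (hF.mem_iff w' (by rw [hSM]; exact mem_subgroupOf.2 hwTM)).1
      (Subtype.ext (SylowSplit.mul_self_of_two hw2))
    have hw'1 : w' ≠ 1 := fun e' => Invol.ne_one hw2 (congrArg Subtype.val e')
    have hall : ∀ y ∈ P, y = 1 ∨ y = w' := fun y hy => by
      by_cases hy1 : y = 1
      · exact Or.inl hy1
      obtain ⟨i, hi⟩ := htr w' hw'P hw'1 y hy hy1
      have hcw : Commute h w' := mul_inv_eq_iff_eq_mul.1 (Subtype.ext hwf)
      rw [(hcw.pow_left i).eq, mul_inv_cancel_right] at hi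
      exact Or.inr hi.symm
    have h4 := hF.four
    have h5 : Nat.card P ≤ 2 := by
      classical
      calc Nat.card P ≤ Nat.card (({1, w'} : Finset M) : Set M) :=
            Nat.card_mono (Set.toFinite _) fun y hy => by simpa using hall y hy
        _ ≤ 2 := by simpa using Finset.card_le_two (a := (1 : M)) (b := w')
    omega
  -- the projection of `U` onto `U₀`
  letI : CommGroup U₀ :=
    { (inferInstance : Group U₀) with
      mul_comm := fun a b => Subtype.ext (hU₀c _ (hUL (mem_inf.1 a.2).1) _ b.2).eq }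
  have hkc : ∀ u ∈ U, ⁅k, u⁆ ∈ U₀ := fun u hu => mem_inf.2
    ⟨mul_mem ((mem_normalizer_iff.1 hkU u).1 hu) (inv_mem hu), by
      rw [commutatorElement_def, show k * u * k⁻¹ * u⁻¹ = k * (u * k⁻¹ * u⁻¹) by group]
      exact mul_mem (pow_mem hgM e) (‹M.Normal›.conj_mem _ (inv_mem (pow_mem hgM e)) u)⟩
  let ψ : U →* U₀ := MonoidHom.mk' (fun u => ⟨⁅k, (u : G)⁆, hkc u u.2⟩) fun u u' => Subtype.ext (by
    show ⁅k, (u : G) * u'⁆ = ⁅k, (u : G)⁆ * ⁅k, (u' : G)⁆
    rw [show ⁅k, (u : G) * u'⁆ = ⁅k, (u : G)⁆ * ((u : G) * ⁅k, (u' : G)⁆ * (u : G)⁻¹) by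
      simp only [commutatorElement_def]; group,
      (hU₀c u (hUL u.2) _ (hkc u' u'.2)).eq, mul_inv_cancel_right])
  set ψ₀ : U₀ →* U₀ := ψ.comp (Subgroup.inclusion inf_le_left)
  have hinj : Function.Injective ψ₀ := (injective_iff_map_eq_one ψ₀).2 fun z hz => by
    have h1 : ⁅k, (z : G)⁆ = 1 := congrArg Subtype.val hz
    exact Subtype.ext (hfix z z.2 (mul_inv_eq_one.1 h1))
  let ε : U₀ ≃* U₀ := MulEquiv.ofBijective ψ₀ (Finite.injective_iff_bijective.1 hinj)
  let φ : (Q₂ : Subgroup L₂) →* U₀ := ε.symm.toMonoidHom.comp (ψ.comp ((L₂.subtype).subgroupMap (Q₂ : Subgroup L₂)))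
  have hU₀ : U₀ = ⊥ := by
    refine (eq_bot_iff_forall _).2 fun z hz => ?_
    obtain ⟨z', hz', hze⟩ := (mem_inf.1 hz).1
    have hzc : ∀ (j : ℕ) (g₀ : L₂), g₀⁻¹ * z' ^ j * g₀ = z' ^ j := fun j g₀ => Subtype.ext (by
      have hzj : Commute (g₀ : G) ((z' : G) ^ j) := by
        rw [show (z' : G) = z from hze]
        exact (hU₀c g₀ g₀.2 z hz).pow_right j
      simpa using (by rw [mul_assoc, ← hzj.eq, inv_mul_cancel_left] :
        (g₀ : G)⁻¹ * (z' : G) ^ j * (g₀ : G) = (z' : G) ^ j))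
    have htriv : MonoidHom.transfer φ z' = 1 := by
      haveI : Group.IsSolvable U₀ := Group.isSolvable_of_comm fun a b => mul_comm a b
      exact eq_one_of_perfect (perfect_top (perfect_per A)) _ z'
    rw [MonoidHom.transfer_eq_pow φ z' fun j g₀ _ => hzc j g₀] at htriv
    set n := (Q₂ : Subgroup L₂).index
    have hn : Odd n := odd_of_not_dvd Q₂.not_dvd_index
    have hφ : φ ⟨z' ^ n, pow_mem hz' n⟩ = ⟨z ^ n, pow_mem hz n⟩ := by
      show ε.symm _ = _
      rw [MulEquiv.symm_apply_eq]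
      refine Subtype.ext ?_
      show ⁅k, ((z' ^ n : L₂) : G)⁆ = ⁅k, z ^ n⁆
      rw [SubgroupClass.coe_pow, show (z' : G) = z from hze]
    rw [hφ] at htriv
    have hzn : z ^ n = 1 := congrArg Subtype.val htriv
    exact TwoEl.eq_one_of_odd (TwoEl.of_group hU2 (mem_inf.1 hz).1) (hn.of_dvd_nat (orderOf_dvd_of_pow_eq_one hzn))
  -- so `L₂` has odd order
  have hU1 : U = ⊥ := by
    by_contra hne
    have h2 : 2 ∣ Nat.card U := by
      obtain ⟨j, hj⟩ := IsPGroup.iff_card.1 hU2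
      rw [hj]
      refine dvd_pow_self 2 fun e' => hne (Subgroup.card_eq_one.1 ?_)
      rw [hj, e', pow_zero]
    obtain ⟨u, hu, huo⟩ := Invol.exists_invol (even_iff_two_dvd.2 h2)
    have hu2 : u * u = 1 := Invol.mul_self huo
    obtain ⟨huC, -⟩ := mem_inf.1 (per_le A (hUL hu))
    obtain ⟨p, hp, hpe⟩ := hF.inner (MulAut.conjNormal u) (by rw [← map_mul, hu2, map_one])
      (fun x hx => Subtype.ext (by
        rw [MulAut.conjNormal_apply, ← mem_centralizer_iff.1 huC _ (mem_subgroupOf.1 (hPT' hx)),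
          mul_inv_cancel_right]))
      (fun x hx => by
        rw [hSM, mem_subgroupOf] at hx
        have : (MulAut.conjNormal u x : M) = x := Subtype.ext (by
          rw [MulAut.conjNormal_apply, (hL₂TM u (hUL hu) _ hx).eq, mul_inv_cancel_right])
        rw [this, mul_inv_cancel]
        exact one_mem _)
    have hup : u = (p : G) := by
      have hmem : (p : G)⁻¹ * u ∈ centralizer (M : Set G) := mem_centralizer_iff.2 fun y hy => by
        have e1 := congrArg Subtype.val (DFunLike.congr_fun hpe ⟨y, hy⟩)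
        rw [MulAut.conjNormal_apply, MulAut.conj_apply] at e1
        have e2 : u * y * u⁻¹ = (p : G) * y * (p : G)⁻¹ := by simpa using e1
        calc y * ((p : G)⁻¹ * u) = (p : G)⁻¹ * ((p : G) * y * (p : G)⁻¹) * u := by group
          _ = (p : G)⁻¹ * (u * y * u⁻¹) * u := by rw [e2]
          _ = _ := by group
      rw [hMc, mem_bot, inv_mul_eq_one] at hmem
      exact hmem.symm
    have hU₀u : u ∈ U₀ := mem_inf.2 ⟨hu, hup ▸ p.2⟩
    rw [hU₀, mem_bot] at hU₀u
    exact Invol.ne_one huo hU₀u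
  have hL₂ : L₂ = ⊥ := eq_bot_of_odd (perfect_per A) (by
    have h1 := (Q₂ : Subgroup L₂).card_mul_index
    have e : (Q₂ : Subgroup L₂) = ⊥ := (map_eq_bot_iff_of_injective _ L₂.subtype_injective).1 hU1
    rw [e, Subgroup.card_bot, one_mul] at h1
    rw [← h1, ← e]
    exact odd_of_not_dvd Q₂.not_dvd_index)
  rw [hL₂, sup_bot_eq] at hL
  haveI : Group.IsSolvable (per C) := Group.isSolvable_of_isSolvable_injective (Subgroup.inclusion_injective hL)
  exact eq_bot_of_solvable (perfect_per C)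

end Cfsg.Agent.ClosedCent
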