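import Cfsg.Agent.Lib.ClosedCent.Reduce

/-!
The statement on the perfect core of the centraliser of a strongly closed 2-subgroup, given the gate and
Goldschmidt's theorem for simple groups.
-/

set_option autoImplicit false

namespace Cfsg.Agent.ClosedCent

universe u

/-- The perfect core of `C(T)` is normal. -/
theorem S1173_of (hg : GateCons.Gate.{u}) (hC : GoldGroups.ClosedAbelianSimple.{u}) {G : Type u} [Group G] [Finite G]
    (hO : Cfsg.oddCore G = ⊥) (S : Sylow 2 G) (T : Subgroup G)
    (hT : Cfsg.IsStronglyClosed T (S : Subgroup G)) :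
    ((⨅ n : ℕ, derivedSeries ↥(Subgroup.centralizer (T : Set G)) n).map
      (Subgroup.centralizer (T : Set G)).subtype).Normal :=
  normal_perCent hg hC hO hT

end Cfsg.Agent.ClosedCent
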