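import Cfsg.Agent.Lib.ClosedCent.Closed
import Cfsg.Agent.Lib.ClosedCent.Leaf

/-!
The reductions: the perfect part of the centraliser of a strongly closed 2-subgroup centralises the fused
elements modulo the odd core.
-/

set_option autoImplicit false
set_option linter.unusedSectionVars false
set_option linter.style.haveILetI false

namespace Cfsg.Agent.ClosedCent

open Subgroup Cfsg.Agent.SylowSplit
open Cfsg.Agent.ClosedAbelian (core TwoEl)
open Cfsg.Agent.GoldGroups (ClosedAbelianSimple)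
open scoped commutatorElement

universe u

variable {G : Type u} [Group G] [Finite G] {S : Sylow 2 G} {T : Subgroup G}

theorem InR.mem_of_normal {R N : Subgroup G} (hN : N.Normal) (h : R ≤ N) {y : G} (hy : InR R y) : y ∈ N := by
  obtain ⟨g, hg⟩ := hy
  simpa [mul_assoc] using hN.conj_mem _ (h hg) g⁻¹

theorem mem_normalClosure {y : G} (hy : InR T y) : y ∈ normalClosure (T : Set G) :=
  InR.mem_of_normal normalClosure_normal subset_normalClosure hy

/-- What centralises the fused elements centralises the normal closure. -/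
theorem le_centralizer_normalClosure {H : Subgroup G} (h : ∀ l ∈ H, ∀ y, InR T y → ⁅l, y⁆ = 1) :
    H ≤ centralizer (normalClosure (T : Set G) : Set G) := by
  refine le_centralizer_iff.1 ((closure_le _).2 fun z hz => ?_)
  obtain ⟨t, ht, htz⟩ := Group.mem_conjugatesOfSet_iff.1 hz
  obtain ⟨g, rfl⟩ := isConj_iff.1 htz
  exact mem_centralizer_iff.2 fun l hl => commutatorElement_eq_one_iff_mul_comm.1 (h l hl _ ((InR.of_mem ht).conj g))

/-- Images in quotients. -/
theorem stronglyClosed_map (hT : Cfsg.IsStronglyClosed T (S : Subgroup G)) (M : Subgroup G) [M.Normal] :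
    Cfsg.IsStronglyClosed (T.map (QuotientGroup.mk' M))
      (S.mapSurjective (QuotientGroup.mk'_surjective M) : Subgroup (G ⧸ M)) := by
  haveI : Fact (Nat.Prime 2) := ⟨Nat.prime_two⟩
  set π := QuotientGroup.mk' M
  refine ⟨map_mono hT.1, ?_⟩
  rintro _ ⟨x, hx, rfl⟩ gb hgb
  obtain ⟨g, rfl⟩ := QuotientGroup.mk'_surjective M gb
  set y := g * x * g⁻¹ with hy
  obtain ⟨s, hs, hse⟩ := hgb
  have hyX : y ∈ (S : Subgroup G) ⊔ M := by
    have h1 : s⁻¹ * y ∈ M := QuotientGroup.eq.1 (hse.trans (by simp [hy]))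
    rw [show y = s * (s⁻¹ * y) by group]
    exact mul_mem (mem_sup_left hs) (mem_sup_right h1)
  have hyR : InR T y := (InR.of_mem hx).conj g
  obtain ⟨c, hc, T', hT', hST', -, hcT⟩ := ClosedAbelian.exists_conj_over S.isPGroup'
    (le_sup_left : (S : Subgroup G) ≤ (S : Subgroup G) ⊔ M) (isPGroup_zpowers (CommPair.two_elt hT hyR))
    (zpowers_le.2 hyX)
  rw [S.is_maximal' hT' hST'] at hcT
  obtain ⟨s', hs', m, hm, rfl⟩ := exists_mul_left (le_top.trans (normalizer_eq_top (H := M)).ge) hc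
  have h2 := CommPair.mem_of hT (hcT y (mem_zpowers y)) (hyR.conj _)
  have h3 : m * y * m⁻¹ ∈ T := by
    have h4 := (mem_normalizer_iff.1 (ZJClosed.sylow_le_normalizer hT (inv_mem hs')) _).1 h2
    rwa [show s'⁻¹ * (s' * m * y * (s' * m)⁻¹) * s'⁻¹⁻¹ = m * y * m⁻¹ by group] at h4
  refine ⟨_, h3, ?_⟩
  have hm1 : π m = 1 := (QuotientGroup.eq_one_iff m).2 hm
  show π (m * y * m⁻¹) = π g * π x * (π g)⁻¹
  rw [hy, map_mul π, map_mul π, map_inv π m, hm1, one_mul, inv_one, mul_one, map_mul π, map_mul π, map_inv π]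

/-- The conclusion in a quotient. -/
theorem quot_mem (ih : Below.{u} (Nat.card G)) (hT : Cfsg.IsStronglyClosed T (S : Subgroup G)) (M : Subgroup G)
    [M.Normal] (hM : M ≠ ⊥) {l : G} (hl : l ∈ per (centralizer (T : Set G))) {y : G} (hy : InR T y) :
    QuotientGroup.mk' M ⁅l, y⁆ ∈ Cfsg.oddCore (G ⧸ M) := by
  set π := QuotientGroup.mk' M
  rw [map_commutatorElement]
  refine ih (G ⧸ M) (CommPair.card_quotient_lt hM) _ _ (stronglyClosed_map hT M) _ ?_ _ (CommPair.Pair.inR_map π hy)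
  refine le_per (perfect_map (perfect_per _) π) ?_ ⟨l, hl, rfl⟩
  rintro _ ⟨z, hz, rfl⟩
  refine mem_centralizer_iff.2 ?_
  rintro _ ⟨t, ht, rfl⟩
  rw [← map_mul, ← map_mul, mem_centralizer_iff.1 (per_le _ hz) t ht]

theorem oddCore_eq_bot (hO : Cfsg.oddCore G = ⊥) (N : Subgroup G) [N.Normal] : Cfsg.oddCore N = ⊥ :=
  (map_eq_bot_iff_of_injective _ N.subtype_injective).1 (CommPair.core_eq_bot_of_normal hO N)

/-- A commutative normal subgroup is a 2-group when the odd core is trivial. -/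
theorem isPGroup_of_comm (hO : Cfsg.oddCore G = ⊥) {A : Subgroup G} (hn : A.Normal)
    (hc : ∀ x ∈ A, ∀ y ∈ A, Commute x y) : IsPGroup 2 A := by
  let B : Subgroup G :=
    { carrier := {x | x ∈ A ∧ ∃ n, Odd n ∧ x ^ n = 1}
      one_mem' := ⟨one_mem A, 1, odd_one, one_pow _⟩
      mul_mem' := fun {x y} hx hy => ⟨mul_mem hx.1 hy.1, by
        obtain ⟨i, hi, hxi⟩ := hx.2
        obtain ⟨j, hj, hyj⟩ := hy.2
        refine ⟨i * j, hi.mul hj, ?_⟩
        rw [(hc x hx.1 y hy.1).mul_pow, pow_mul, hxi, one_pow, one_mul, mul_comm, pow_mul, hyj, one_pow]⟩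
      inv_mem' := fun {x} hx => ⟨inv_mem hx.1, by
        obtain ⟨i, hi, hxi⟩ := hx.2
        exact ⟨i, hi, by rw [inv_pow, hxi, inv_one]⟩⟩ }
  have hB : B = ⊥ := by
    rw [eq_bot_iff, ← hO]
    refine SEBrick.le_oddCore ⟨fun x hx g => ⟨hn.conj_mem x hx.1 g, ?_⟩⟩ ?_
    · obtain ⟨i, hi, hxi⟩ := hx.2
      exact ⟨i, hi, by rw [conj_pow, hxi, mul_one, mul_inv_cancel]⟩
    · refine Nat.not_even_iff_odd.1 fun he => ?_
      obtain ⟨t, ⟨-, n, hn', htn⟩, ht⟩ := Invol.exists_invol he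
      have h := orderOf_dvd_of_pow_eq_one htn
      rw [ht] at h
      exact Nat.not_even_iff_odd.2 hn' (even_iff_two_dvd.2 h)
  rintro ⟨x, hx⟩
  obtain ⟨u, v, huv, -, hvx, ⟨k, hk⟩, hvo⟩ := ClosedAbelian.exists_parts x
  have hv : v ∈ B := ⟨zpowers_le.2 hx hvx, orderOf v, hvo, pow_orderOf_eq_one v⟩
  rw [hB, mem_bot] at hv
  rw [hv, mul_one] at huv
  exact ⟨k, Subtype.ext (huv ▸ hk)⟩

/-- A perfect subgroup centralising a solvable subgroup which contains its commutators with `y`. -/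
theorem commute_of_solvable {L W : Subgroup G} (hL : ⁅L, L⁆ = L) [Group.IsSolvable W]
    (hW : ∀ l ∈ L, ∀ w ∈ W, Commute l w) {y : G} (h : ∀ l ∈ L, ⁅l, y⁆ ∈ W) {l : G} (hl : l ∈ L) :
    ⁅l, y⁆ = 1 := by
  let f : L →* W := MonoidHom.mk' (fun l => ⟨⁅(l : G), y⁆⁻¹, inv_mem (h l l.2)⟩) fun a b => Subtype.ext (by
    show ⁅(a : G) * b, y⁆⁻¹ = ⁅(a : G), y⁆⁻¹ * ⁅(b : G), y⁆⁻¹
    rw [show ⁅(a : G) * b, y⁆ = (a : G) * ⁅(b : G), y⁆ * (a : G)⁻¹ * ⁅(a : G), y⁆ by
      simp only [commutatorElement_def]; group, (hW a a.2 _ (h b b.2)).eq, mul_inv_cancel_right, mul_inv_rev])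
  exact inv_eq_one.1 (congrArg Subtype.val (eq_one_of_perfect (perfect_top hL) f ⟨l, hl⟩))

/-- The conclusion when `N L` is proper. -/
theorem commute_of_proper (hO : Cfsg.oddCore G = ⊥) (ih : Below.{u} (Nat.card G))
    (hT : Cfsg.IsStronglyClosed T (S : Subgroup G))
    (hX : normalClosure (T : Set G) ⊔ per (centralizer (T : Set G)) ≠ ⊤) {l : G}
    (hl : l ∈ per (centralizer (T : Set G))) {y : G} (hy : InR T y) : ⁅l, y⁆ = 1 := by
  set N := normalClosure (T : Set G)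
  set L := per (centralizer (T : Set G))
  set X := N ⊔ L
  have hlX : l ∈ per (X ⊓ centralizer (T : Set G)) :=
    le_per (perfect_per _) (le_inf le_sup_right (per_le _)) hl
  have h := (Part.self hT (le_trans subset_normalClosure le_sup_left)).apply ih hT hX hlX
    (mem_sup_left (mem_normalClosure hy)) hy
  have hN : ⁅l, y⁆ ∈ N :=
    mul_mem ((normalClosure_normal).conj_mem y (mem_normalClosure hy) l) (inv_mem (mem_normalClosure hy))
  have hle : core X ⊓ N ≤ core N := ClosedAbelian.le_core inf_le_right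
    ((le_inf ((le_sup_left : N ≤ X).trans (ClosedAbelian.core_normalized X)) le_normalizer).trans
      inf_normalizer_le_normalizer_inf)
    (fun h2 => ClosedAbelian.core_odd X (h2.trans (card_dvd_of_le inf_le_left)))
  have h1 := hle (mem_inf.2 ⟨h, hN⟩)
  rw [CommPair.core_eq_bot_of_normal hO N, mem_bot] at h1
  exact h1

/-- A minimal normal subgroup apart from `T`. -/
theorem commute_of_avoid (hcp : CommPair.Stmt.{u}) (hO : Cfsg.oddCore G = ⊥) (ih : Below.{u} (Nat.card G))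
    (hT : Cfsg.IsStronglyClosed T (S : Subgroup G))
    (hX : normalClosure (T : Set G) ⊔ per (centralizer (T : Set G)) = ⊤) {M : Subgroup G} [M.Normal] (hM : M ≠ ⊥)
    (hmin : ∀ B : Subgroup G, B.Normal → B ≤ M → B ≠ ⊥ → B = M) (hMT : M ⊓ T = ⊥) {l : G}
    (hl : l ∈ per (centralizer (T : Set G))) {y : G} (hy : InR T y) : ⁅l, y⁆ = 1 := by
  haveI : Fact (Nat.Prime 2) := ⟨Nat.prime_two⟩
  set N := normalClosure (T : Set G)
  have hNn : N.Normal := normalClosure_normal
  have D : CommPair.Pair S T ((S : Subgroup G) ⊓ M) := by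
    refine ⟨hT, ⟨inf_le_left, fun x hx g hg => mem_inf.2 ⟨hg, ‹M.Normal›.conj_mem x (mem_inf.1 hx).2 g⟩⟩,
      fun a ha b hb => ?_, ?_⟩
    · obtain ⟨hbS, hbM⟩ := mem_inf.1 hb
      have h : ⁅a, b⁆ ∈ M ⊓ T := by
        refine mem_inf.2 ⟨mul_mem (‹M.Normal›.conj_mem b hbM a) (inv_mem hbM), ?_⟩
        rw [commutatorElement_def, show a * b * a⁻¹ * b⁻¹ = a * (b * a⁻¹ * b⁻¹) by group]
        exact mul_mem ha (hT.2 _ (inv_mem ha) b (mul_mem (mul_mem hbS (inv_mem (hT.1 ha))) (inv_mem hbS)))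
      rw [hMT, mem_bot] at h
      exact commutatorElement_eq_one_iff_commute.1 h
    · rw [eq_bot_iff, ← hMT]
      exact fun x hx => mem_inf.2 ⟨(mem_inf.1 (mem_inf.1 hx).2).2, (mem_inf.1 hx).1⟩
  have hMC : M ≤ centralizer (N : Set G) := by
    haveI : (centralizer (N : Set G)).Normal := Subgroup.normal_centralizer
    by_contra hne
    have hbot : M ⊓ centralizer (N : Set G) = ⊥ := by
      by_contra h
      exact hne (inf_eq_left.1 (hmin _ inferInstance inf_le_left h))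
    refine hM (eq_bot_iff.2 (hO ▸ SEBrick.le_oddCore inferInstance (Nat.not_even_iff_odd.1 fun he => ?_)))
    obtain ⟨x, hxM, hx⟩ := Invol.exists_invol he
    obtain ⟨k, hk⟩ := exists_conj_mem S (x := x) ⟨1, by rw [hx, pow_one]⟩
    have hxR : InR ((S : Subgroup G) ⊓ M) x := ⟨k, mem_inf.2 ⟨hk, ‹M.Normal›.conj_mem x hxM k⟩⟩
    have hc : x ∈ centralizer (N : Set G) := le_centralizer_normalClosure (H := zpowers x) (fun w hw z hz => by
      have h1 := hcp G S T _ D z x hz hxR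
      rw [hO, mem_bot] at h1
      obtain ⟨i, rfl⟩ := mem_zpowers_iff.1 hw
      exact commutatorElement_eq_one_iff_commute.2
        ((commutatorElement_eq_one_iff_commute.1 h1).zpow_right i).symm) (mem_zpowers x)
    exact Invol.ne_one hx (mem_bot.1 (hbot ▸ mem_inf.2 ⟨hxM, hc⟩))
  set Z := M ⊓ N
  have hZc : ∀ z ∈ Z, ∀ n ∈ N, Commute n z := fun z hz n hn => mem_centralizer_iff.1 (hMC (mem_inf.1 hz).1) n hn
  have hZ2 : IsPGroup 2 Z :=
    isPGroup_of_comm hO inferInstance fun a ha b hb => (hZc b hb a (mem_inf.1 ha).2)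
  haveI : (Cfsg.oddCore (G ⧸ M)).Normal := FittingCores.pPrimeCore_normal 2
  set K := (Cfsg.oddCore (G ⧸ M)).comap (QuotientGroup.mk' M)
  haveI : K.Normal := inferInstanceAs ((Cfsg.oddCore (G ⧸ M)).comap _).Normal
  have hKN : K ⊓ N ≤ Z := by
    intro x hx
    have hle := le_of_core_bot (oddCore_eq_bot hO N) (W := (K ⊓ N).subgroupOf N) (Z := Z.subgroupOf N)
      hZ2.comap_subtype (fun z hz => mem_center_iff.2 fun g => Subtype.ext (hZc _ (mem_subgroupOf.1 hz) _ g.2).eq)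
      (fun w hw => ⟨Nat.card (Cfsg.oddCore (G ⧸ M)), SEBrick.oddCore_odd, mem_subgroupOf.2 (mem_inf.2
        ⟨(QuotientGroup.eq_one_iff _).1 (by
          show QuotientGroup.mk' M ((w ^ _ : N) : G) = 1
          rw [SubgroupClass.coe_pow, map_pow]
          exact congrArg Subtype.val (pow_card_eq_one' (x := (⟨_, (mem_inf.1 (mem_subgroupOf.1 hw)).1⟩ :
            Cfsg.oddCore (G ⧸ M))))), (w ^ _).2⟩)⟩)
    exact mem_subgroupOf.1 (hle (mem_subgroupOf.2 hx : (⟨x, (mem_inf.1 hx).2⟩ : N) ∈ _))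
  -- the map into the centre
  let E : Subgroup G :=
    { carrier := {z | z ∈ N ∧ ⁅l, z⁆ ∈ Z}
      one_mem' := ⟨one_mem N, by simp⟩
      mul_mem' := fun {a b} ha hb => ⟨mul_mem ha.1 hb.1, by
        rw [show ⁅l, a * b⁆ = ⁅l, a⁆ * (a * ⁅l, b⁆ * a⁻¹) by simp only [commutatorElement_def]; group,
          (hZc _ hb.2 a ha.1).eq, mul_inv_cancel_right]
        exact mul_mem ha.2 hb.2⟩
      inv_mem' := fun {a} ha => ⟨inv_mem ha.1, by
        rw [show ⁅l, a⁻¹⁆ = a⁻¹ * ⁅l, a⁆⁻¹ * a⁻¹⁻¹ by simp only [commutatorElement_def]; group,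
          (hZc _ (inv_mem ha.2) a⁻¹ (inv_mem ha.1)).eq, mul_inv_cancel_right]
        exact inv_mem ha.2⟩ }
  have hNE : N ≤ E := by
    refine (closure_le _).2 fun z hz => ?_
    obtain ⟨t, ht, htz⟩ := Group.mem_conjugatesOfSet_iff.1 hz
    obtain ⟨g, rfl⟩ := isConj_iff.1 htz
    have hzR : InR T (g * t * g⁻¹) := (InR.of_mem ht).conj g
    exact ⟨mem_normalClosure hzR, hKN (mem_inf.2 ⟨quot_mem ih hT M hM hl hzR,
      mul_mem (hNn.conj_mem _ (mem_normalClosure hzR) l) (inv_mem (mem_normalClosure hzR))⟩)⟩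
  obtain ⟨g, hg⟩ := hy
  obtain ⟨n, hn, l', hl', hnl⟩ := exists_mul (le_top.trans (normalizer_eq_top (H := N)).ge)
    (hX.ge (mem_top g⁻¹) : g⁻¹ ∈ N ⊔ per (centralizer (T : Set G)))
  set t := g * y * g⁻¹ with ht
  have hyt : y = n * t * n⁻¹ := by
    have hcl : l' * t = t * l' := (mem_centralizer_iff.1 (per_le _ hl') t hg).symm
    calc y = g⁻¹ * t * g⁻¹⁻¹ := by rw [ht]; group
      _ = n * (l' * t * l'⁻¹) * n⁻¹ := by rw [← hnl]; group
      _ = _ := by rw [hcl, mul_inv_cancel_right]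
  have htl : ⁅l, t⁆ = 1 :=
    commutatorElement_eq_one_iff_mul_comm.2 (mem_centralizer_iff.1 (per_le _ hl) t hg).symm
  have hnZ : ⁅l, n⁆ ∈ Z := (hNE hn).2
  have htN : t ∈ N := subset_normalClosure hg
  have hlt : Commute l t := commutatorElement_eq_one_iff_commute.1 htl
  rw [hyt, commutatorElement_eq_one_iff_mul_comm]
  have hln : l * n = ⁅l, n⁆ * n * l := by rw [commutatorElement_def]; group
  calc l * (n * t * n⁻¹) = l * n * t * n⁻¹ := by group
    _ = ⁅l, n⁆ * (n * (l * t) * n⁻¹) := by rw [hln]; group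
    _ = ⁅l, n⁆ * (n * t * (l * n⁻¹)) := by rw [hlt.eq]; group
    _ = ⁅l, n⁆ * (n * t * n⁻¹) * (n * l * n⁻¹) := by group
    _ = n * t * n⁻¹ * ⁅l, n⁆ * (n * l * n⁻¹) := by
      rw [(hZc _ hnZ _ (mul_mem (mul_mem hn htN) (inv_mem hn))).eq]
    _ = n * t * n⁻¹ * l := by rw [commutatorElement_def]; group

/-- A normal 2-subgroup inside `T`. -/
theorem commute_of_two (hO : Cfsg.oddCore G = ⊥) (ih : Below.{u} (Nat.card G))
    (hT : Cfsg.IsStronglyClosed T (S : Subgroup G)) {M : Subgroup G} [M.Normal] (hM : M ≠ ⊥)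
    (h2 : IsPGroup 2 M) (hMT : M ≤ T) {l : G} (hl : l ∈ per (centralizer (T : Set G))) {y : G} (hy : InR T y) :
    ⁅l, y⁆ = 1 := by
  haveI : Fact (Nat.Prime 2) := ⟨Nat.prime_two⟩
  set L := per (centralizer (T : Set G))
  set C := centralizer (M : Set G)
  haveI hCn : C.Normal := Subgroup.normal_centralizer
  have hLC : L ≤ C := (per_le _).trans (centralizer_le hMT)
  haveI hOn : (Cfsg.oddCore (G ⧸ M)).Normal := FittingCores.pPrimeCore_normal 2
  set π := QuotientGroup.mk' M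
  set K := (Cfsg.oddCore (G ⧸ M)).comap π
  haveI hKn : K.Normal := inferInstanceAs ((Cfsg.oddCore (G ⧸ M)).comap _).Normal
  haveI : Group.IsSolvable M := by
    haveI := h2.isNilpotent
    infer_instance
  haveI : Group.IsSolvable (Cfsg.oddCore (G ⧸ M)) := solvable_of_odd SEBrick.oddCore_odd
  have hMK : M ≤ K := fun m hm => by
    show π m ∈ Cfsg.oddCore (G ⧸ M)
    rw [show π m = 1 from (QuotientGroup.eq_one_iff m).2 hm]
    exact one_mem _
  let ρ : K →* Cfsg.oddCore (G ⧸ M) := (π.comp K.subtype).codRestrict _ fun k => k.2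
  haveI : Group.IsSolvable K := Group.isSolvable_of_ker_le_range (Subgroup.inclusion hMK) ρ fun k hk =>
    ⟨⟨k, (QuotientGroup.eq_one_iff (k : G)).1 (congrArg Subtype.val hk)⟩, rfl⟩
  have hKC : K ⊓ C ≤ M := by
    intro x hx
    have hle := le_of_core_bot (oddCore_eq_bot hO C) (W := (K ⊓ C).subgroupOf C) (Z := (M ⊓ C).subgroupOf C)
      (h2.to_le inf_le_left).comap_subtype
      (fun z hz => mem_center_iff.2 fun g => Subtype.ext
        (mem_centralizer_iff.1 g.2 _ (mem_inf.1 (mem_subgroupOf.1 hz)).1).symm)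
      (fun w hw => ⟨Nat.card (Cfsg.oddCore (G ⧸ M)), SEBrick.oddCore_odd, mem_subgroupOf.2 (mem_inf.2
        ⟨(QuotientGroup.eq_one_iff _).1 (by
          show QuotientGroup.mk' M ((w ^ _ : C) : G) = 1
          rw [SubgroupClass.coe_pow, map_pow]
          exact congrArg Subtype.val (pow_card_eq_one' (x := (⟨_, (mem_inf.1 (mem_subgroupOf.1 hw)).1⟩ :
            Cfsg.oddCore (G ⧸ M))))), (w ^ _).2⟩)⟩)
    exact (mem_inf.1 (mem_subgroupOf.1 (hle (mem_subgroupOf.2 hx : (⟨x, (mem_inf.1 hx).2⟩ : C) ∈ _)))).1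
  have hLM : ∀ a ∈ L, ∀ m ∈ M, Commute a m := fun a ha m hm => (mem_centralizer_iff.1 (hLC ha) m hm).symm
  have hLK : ∀ a ∈ L, ∀ k ∈ K, Commute a k := fun a ha k hk => by
    refine commutatorElement_eq_one_iff_commute.1 (commute_of_solvable (perfect_per _) hLM (fun b hb => ?_) ha)
    refine hKC (mem_inf.2 ⟨mul_mem (hKn.conj_mem k hk b) (inv_mem hk), ?_⟩)
    rw [commutatorElement_def, show b * k * b⁻¹ * k⁻¹ = b * (k * b⁻¹ * k⁻¹) by group]
    exact mul_mem (hLC hb) (hCn.conj_mem _ (inv_mem (hLC hb)) k)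
  exact commute_of_solvable (perfect_per _) hLK (fun b hb => quot_mem ih hT M hM hb hy) hl

/-- A smaller strongly closed subgroup inside a minimal normal subgroup. -/
theorem le_centralizer_of_small (hO : Cfsg.oddCore G = ⊥)
    (ihT : ∀ T₀ : Subgroup G, Cfsg.IsStronglyClosed T₀ (S : Subgroup G) → Nat.card T₀ < Nat.card T →
      ∀ l ∈ per (centralizer (T₀ : Set G)), ∀ y : G, InR T₀ y → ⁅l, y⁆ ∈ Cfsg.oddCore G)
    {T₀ M : Subgroup G} [M.Normal] (h0 : Cfsg.IsStronglyClosed T₀ (S : Subgroup G)) (hle : T₀ ≤ T)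
    (hne : T₀ ≠ T) (hb : T₀ ≠ ⊥) (hM : T₀ ≤ M) (hmin : ∀ B : Subgroup G, B.Normal → B ≤ M → B ≠ ⊥ → B = M) :
    per (centralizer (T : Set G)) ≤ centralizer (M : Set G) := by
  have hlt : Nat.card T₀ < Nat.card T := lt_of_le_of_ne (card_le_of_le hle) fun e =>
    hne (eq_of_le_of_card_ge hle e.ge)
  have hN : normalClosure (T₀ : Set G) = M := hmin _ normalClosure_normal (normalClosure_le_normal hM)
    fun e => hb (eq_bot_iff.2 (e ▸ subset_normalClosure))
  rw [← hN]
  refine (per_mono (centralizer_le hle)).trans (le_centralizer_normalClosure fun l hl y hy => ?_)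
  have := ihT T₀ h0 hlt l hl y hy
  rwa [hO, mem_bot] at this

theorem exists_minimal {A : Subgroup G} (hA : A.Normal) (hne : A ≠ ⊥) :
    ∃ M ≤ A, M.Normal ∧ M ≠ ⊥ ∧ ∀ B : Subgroup G, B.Normal → B ≤ M → B ≠ ⊥ → B = M := by
  obtain ⟨M, ⟨hMn, hMA, hMb⟩, hmin⟩ := wellFounded_lt.has_min
    {M : Subgroup G | M.Normal ∧ M ≤ A ∧ M ≠ ⊥} ⟨A, hA, le_rfl, hne⟩
  exact ⟨M, hMA, hMn, hMb, fun B hB hBM hBb =>
    hBM.eq_or_lt.resolve_right (hmin B ⟨hB, hBM.trans hMA, hBb⟩)⟩

/-- A minimal normal subgroup of `G = M L` containing the elementary abelian `T` is simple. -/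
theorem simple_of_top (hcp : CommPair.Stmt.{u}) (hO : Cfsg.oddCore G = ⊥)
    (hT : Cfsg.IsStronglyClosed T (S : Subgroup G)) {M : Subgroup G} [M.Normal] (hM : M ≠ ⊥)
    (hmin : ∀ B : Subgroup G, B.Normal → B ≤ M → B ≠ ⊥ → B = M) (hMc : centralizer (M : Set G) = ⊥)
    (hN : normalClosure (T : Set G) = M)
    (hX : normalClosure (T : Set G) ⊔ per (centralizer (T : Set G)) = ⊤) : IsSimpleGroup M := by
  haveI : Fact (Nat.Prime 2) := ⟨Nat.prime_two⟩
  haveI : Nontrivial M := (nontrivial_iff_ne_bot M).2 hM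
  refine ⟨fun H hH => or_iff_not_imp_left.2 fun hHb => ?_⟩
  obtain ⟨M₁, hM₁H, hM₁n, hM₁b, hmin₁⟩ := exists_minimal hH hHb
  set Q := M₁.map M.subtype with hQ
  have hQb : Q ≠ ⊥ := fun e => hM₁b ((map_eq_bot_iff_of_injective _ M.subtype_injective).1 e)
  have hMQ : M ≤ normalizer (Q : Set G) := by
    have h := le_normalizer_map (H := M₁) M.subtype
    rwa [normalizer_eq_top, ← MonoidHom.range_eq_map, range_subtype] at h
  -- `M₁` meets `T`
  obtain ⟨t, ht, htQ, ht1⟩ : ∃ t ∈ T, t ∈ Q ∧ t ≠ 1 := by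
    by_contra hno
    push Not at hno
    set TM := (S : Subgroup G) ⊓ M with hTM'
    obtain ⟨SM, hle⟩ := ((S.isPGroup'.to_le inf_le_left : IsPGroup 2 TM).comap_subtype (K := M)).exists_le_sylow
    obtain ⟨k', hk'⟩ := exists_conj_le S (SM.2.map M.subtype)
    have hSM : (SM : Subgroup M) = TM.subgroupOf M := by
      have hle' : ((SM : Subgroup M).map M.subtype).map (MulAut.conj k').toMonoidHom ≤ TM := by
        rintro _ ⟨q, hq, rfl⟩
        exact mem_inf.2 ⟨hk' q hq, ‹M.Normal›.conj_mem q (map_subtype_le _ hq) k'⟩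
      have hcard := card_le_of_le hle'
      rw [LEBasic.card_map_conj] at hcard
      have h1 : TM ≤ (SM : Subgroup M).map M.subtype := fun z hz =>
        ⟨⟨z, (mem_inf.1 hz).2⟩, hle (mem_subgroupOf.2 hz), rfl⟩
      have h2 := eq_of_le_of_card_ge h1 hcard
      rw [h2, ← comap_subtype, comap_map_eq_self_of_injective M.subtype_injective]
    have hT' : Cfsg.IsStronglyClosed (T.subgroupOf M) (SM : Subgroup M) := by
      refine ⟨fun x hx => ?_, fun x hx g hg => ?_⟩
      · rw [hSM]; exact mem_subgroupOf.2 (mem_inf.2 ⟨hT.1 (mem_subgroupOf.1 hx), x.2⟩)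
      · rw [hSM, mem_subgroupOf] at hg
        exact mem_subgroupOf.2 (hT.2 (x : G) (mem_subgroupOf.1 hx) (g : G) (mem_inf.1 hg).1)
    have D : CommPair.Pair SM (T.subgroupOf M) ((SM : Subgroup M) ⊓ M₁) := by
      refine ⟨hT', ⟨inf_le_left, fun x hx g hg => mem_inf.2 ⟨hg, hM₁n.conj_mem x (mem_inf.1 hx).2 g⟩⟩,
        fun a ha b hb => ?_, ?_⟩
      · obtain ⟨hbS, hbM⟩ := mem_inf.1 hb
        have h : ⁅a, b⁆ ∈ M₁ ∧ ⁅a, b⁆ ∈ T.subgroupOf M := by
          refine ⟨mul_mem (hM₁n.conj_mem b hbM a) (inv_mem hbM), ?_⟩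
          rw [commutatorElement_def, show a * b * a⁻¹ * b⁻¹ = a * (b * a⁻¹ * b⁻¹) by group]
          exact mul_mem ha (hT'.2 _ (inv_mem ha) b (mul_mem (mul_mem hbS (inv_mem (hT'.1 ha))) (inv_mem hbS)))
        exact commutatorElement_eq_one_iff_commute.1
          (Subtype.ext (hno _ (mem_subgroupOf.1 h.2) ⟨_, h.1, rfl⟩))
      · refine eq_bot_iff.2 fun x hx => mem_bot.2 (Subtype.ext ?_)
        obtain ⟨hxT, hx1⟩ := mem_inf.1 hx
        exact hno _ (mem_subgroupOf.1 hxT) ⟨x, (mem_inf.1 hx1).2, rfl⟩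
    have hOM : Cfsg.oddCore M = ⊥ := oddCore_eq_bot hO M
    -- the conjugates of `T` commute with the 2-elements of `M₁`
    have hcom : ∀ x ∈ M₁, TwoEl x → (x : G) ∈ centralizer (M : Set G) := fun x hx h2 => by
      suffices h : (x : G) ∈ centralizer (normalClosure (T : Set G) : Set G) by rwa [hN] at h
      refine le_centralizer_normalClosure (H := zpowers (x : G)) (fun w hw z hz => ?_) (mem_zpowers _)
      have hzM : z ∈ M := hN ▸ mem_normalClosure hz
      have hzR : InR (T.subgroupOf M) (⟨z, hzM⟩ : M) := by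
        obtain ⟨c, hc⟩ := exists_conj_mem SM (x := (⟨z, hzM⟩ : M)) (by
          obtain ⟨i, hi⟩ := CommPair.two_elt hT hz
          exact ⟨i, by rwa [← Subgroup.orderOf_coe]⟩)
        refine ⟨c, mem_subgroupOf.2 (CommPair.mem_of hT ?_ ?_)⟩
        · rw [hSM, mem_subgroupOf] at hc
          exact (mem_inf.1 hc).1
        · simpa using hz.conj (c : G)
      obtain ⟨c, hc⟩ := exists_conj_mem SM (x := x) (twoEl_order h2)
      have h1 := hcp M SM _ _ D _ x hzR ⟨c, mem_inf.2 ⟨hc, hM₁n.conj_mem x hx c⟩⟩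
      rw [hOM, mem_bot] at h1
      obtain ⟨i, rfl⟩ := mem_zpowers_iff.1 hw
      have h2' : Commute z (x : G) :=
        commutatorElement_eq_one_iff_commute.1 (congrArg Subtype.val h1 : ⁅z, (x : G)⁆ = 1)
      exact commutatorElement_eq_one_iff_commute.2 (h2'.zpow_right i).symm
    refine hM₁b (eq_bot_iff.2 (hOM ▸ SEBrick.le_oddCore hM₁n (Nat.not_even_iff_odd.1 fun he => ?_)))
    obtain ⟨x, hx1, hx⟩ := Invol.exists_invol he
    have hc := hcom x hx1 ⟨1, by rw [pow_one, ← hx, pow_orderOf_eq_one]⟩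
    rw [hMc, mem_bot] at hc
    exact Invol.ne_one hx (Subtype.ext hc)
  -- so it is normal
  have hQn : ∀ a ∈ per (centralizer (T : Set G)), a ∈ normalizer (Q : Set G) := by
    intro a ha
    set Q' := Q.map (MulAut.conj a).toMonoidHom with hQ'
    have hQM : Q ≤ M := map_subtype_le _
    have hQ'M : Q' ≤ M := by
      rintro _ ⟨q, hq, rfl⟩
      exact ‹M.Normal›.conj_mem q (hQM hq) a
    have hMQ' : M ≤ normalizer (Q' : Set G) := fun m hm => mem_normalizer_fintype fun z ⟨q, hq, hqz⟩ => by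
      subst hqz
      refine ⟨a⁻¹ * m * a * q * (a⁻¹ * m * a)⁻¹, ?_, ?_⟩
      · exact (mem_normalizer_iff.1 (hMQ (by simpa using ‹M.Normal›.conj_mem m hm a⁻¹)) q).1 hq
      · show a * (a⁻¹ * m * a * q * (a⁻¹ * m * a)⁻¹) * a⁻¹ = m * (a * q * a⁻¹) * m⁻¹
        group
    have htQ' : t ∈ Q' := ⟨t, htQ, by
      show a * t * a⁻¹ = t
      rw [← mem_centralizer_iff.1 (per_le _ ha) t ht, mul_inv_cancel_right]⟩
    haveI : (Q ⊓ Q').subgroupOf M |>.Normal :=
      normal_subgroupOf_of_le_normalizer ((le_inf hMQ hMQ').trans inf_normalizer_le_normalizer_inf)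
    have hle : (Q ⊓ Q').subgroupOf M ≤ M₁ := fun z hz => by
      obtain ⟨z', hz', e⟩ := (mem_inf.1 (mem_subgroupOf.1 hz)).1
      exact Subtype.ext e ▸ hz'
    have heq : (Q ⊓ Q').subgroupOf M = M₁ := hmin₁ _ inferInstance hle fun e => ht1 (by
      have h : (⟨t, hQM htQ⟩ : M) ∈ (Q ⊓ Q').subgroupOf M := mem_subgroupOf.2 (mem_inf.2 ⟨htQ, htQ'⟩)
      rw [e, mem_bot] at h
      exact congrArg Subtype.val h)
    have hQQ' : Q ≤ Q' := by
      rw [hQ, ← heq]
      exact (map_comap_le _ _).trans inf_le_right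
    exact LEBasic.map_conj_eq_iff_mem_normalizer.1
      (eq_of_le_of_card_ge hQQ' (LEBasic.card_map_conj Q a).le).symm
  haveI : Q.Normal := normalizer_eq_top_iff.1 (eq_top_iff.2 (hX ▸ sup_le (hN ▸ hMQ) hQn))
  have hQM' : Q = M := hmin Q inferInstance (map_subtype_le _) hQb
  refine eq_top_iff.2 fun z _ => hM₁H ?_
  obtain ⟨z', hz', e⟩ := (hQM'.ge z.2 : (z : G) ∈ M₁.map M.subtype)
  exact Subtype.ext e ▸ hz'

/-- The case of a trivial odd core. -/
theorem commute_of_trivial_core (hcp : CommPair.Stmt.{u}) (hC : ClosedAbelianSimple.{u})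
    (hO : Cfsg.oddCore G = ⊥) (ih : Below.{u} (Nat.card G)) (hT : Cfsg.IsStronglyClosed T (S : Subgroup G))
    (ihT : ∀ T₀ : Subgroup G, Cfsg.IsStronglyClosed T₀ (S : Subgroup G) → Nat.card T₀ < Nat.card T →
      ∀ l ∈ per (centralizer (T₀ : Set G)), ∀ y : G, InR T₀ y → ⁅l, y⁆ ∈ Cfsg.oddCore G)
    {l : G} (hl : l ∈ per (centralizer (T : Set G))) {y : G} (hy : InR T y) : ⁅l, y⁆ = 1 := by
  haveI : Fact (Nat.Prime 2) := ⟨Nat.prime_two⟩
  by_contra hne
  set L := per (centralizer (T : Set G)) with hLdef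
  set N := normalClosure (T : Set G) with hNdef
  have hL1 : L ≠ ⊥ := fun e => hne (by rw [e, mem_bot] at hl; simp [hl])
  have hX : N ⊔ L = ⊤ := by
    by_contra h
    exact hne (commute_of_proper hO ih hT h hl hy)
  have hmeet : ∀ (M : Subgroup G), M.Normal → M ≠ ⊥ → (∀ B : Subgroup G, B.Normal → B ≤ M → B ≠ ⊥ → B = M) →
      M ⊓ T ≠ ⊥ ∧ ¬ IsPGroup 2 M := by
    intro M hMn hMb hmin
    haveI := hMn
    have h1 : M ⊓ T ≠ ⊥ := fun e => hne (commute_of_avoid hcp hO ih hT hX hMb hmin e hl hy)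
    refine ⟨h1, fun h2 => hne (commute_of_two hO ih hT hMb h2 ?_ hl hy)⟩
    have hn : (M ⊓ T).Normal := ⟨fun x hx g => mem_inf.2 ⟨hMn.conj_mem x (mem_inf.1 hx).1 g,
      hT.2 x (mem_inf.1 hx).2 g (CommPair.le_sylow S hMn h2 (hMn.conj_mem x (mem_inf.1 hx).1 g))⟩⟩
    exact inf_eq_left.1 (hmin _ hn inf_le_left h1)
  have hclosed : ∀ M : Subgroup G, M.Normal → Cfsg.IsStronglyClosed (T ⊓ M) (S : Subgroup G) := fun M hMn =>
    ⟨inf_le_left.trans hT.1, fun x hx g hg => mem_inf.2 ⟨hT.2 x (mem_inf.1 hx).1 g hg,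
      hMn.conj_mem x (mem_inf.1 hx).2 g⟩⟩
  -- a minimal normal subgroup containing `T`
  obtain ⟨M, hMn, hMb, hmin, hTM⟩ : ∃ M : Subgroup G, M.Normal ∧ M ≠ ⊥ ∧
      (∀ B : Subgroup G, B.Normal → B ≤ M → B ≠ ⊥ → B = M) ∧ T ≤ M := by
    by_contra hno
    push Not at hno
    obtain ⟨N', hN'le, hN'n, hN'b, hN'min⟩ := exists_minimal (A := normalClosure (L : Set G)) normalClosure_normal
      fun e => hL1 (eq_bot_iff.2 (e ▸ subset_normalClosure))
    haveI := hN'n
    have hsm := le_centralizer_of_small hO ihT (hclosed N' hN'n) inf_le_left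
      (fun e => hno N' hN'n hN'b hN'min (inf_eq_left.1 e))
      (fun e => (hmeet N' hN'n hN'b hN'min).1 (by rw [inf_comm]; exact e)) inf_le_right hN'min
    haveI : (centralizer (N' : Set G)).Normal := Subgroup.normal_centralizer
    have hself : N' ≤ centralizer (N' : Set G) := hN'le.trans (normalClosure_le_normal hsm)
    exact (hmeet N' hN'n hN'b hN'min).2
      (isPGroup_of_comm hO hN'n fun a ha b hb => mem_centralizer_iff.1 (hself hb) a ha)
  haveI := hMn
  have hN : N = M := by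
    refine hmin _ normalClosure_normal (normalClosure_le_normal hTM) fun e => ?_
    exact (hmeet M hMn hMb hmin).1 (eq_bot_iff.2 (inf_le_right.trans ((subset_normalClosure).trans e.le)))
  haveI hCn : (centralizer (M : Set G)).Normal := Subgroup.normal_centralizer
  have hMc : centralizer (M : Set G) = ⊥ := by
    by_contra h
    obtain ⟨M', hM'C, hM'n, hM'b, hM'min⟩ := exists_minimal hCn h
    haveI := hM'n
    have hMM' : M' = M := by
      have hne' : M' ⊓ M ≠ ⊥ := fun e => (hmeet M' hM'n hM'b hM'min).1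
        (eq_bot_iff.2 ((inf_le_inf_left M' hTM).trans e.le))
      exact (hM'min _ inferInstance inf_le_left hne').symm.trans (hmin _ inferInstance inf_le_right hne')
    exact (hmeet M hMn hMb hmin).2 (isPGroup_of_comm hO hMn fun a ha b hb =>
      mem_centralizer_iff.1 (hM'C (hMM'.symm ▸ hb)) a ha)
  have hZ : center G = ⊥ := eq_bot_iff.2 fun z hz =>
    hMc ▸ mem_centralizer_iff.2 fun m _ => mem_center_iff.1 hz m
  have hkill : ¬ L ≤ centralizer (M : Set G) := fun h => hL1 (eq_bot_iff.2 (hMc ▸ h))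
  have hT1 : T ≠ ⊥ := fun e => (hmeet M hMn hMb hmin).1 (by rw [e, inf_bot_eq])
  set U := (S : Subgroup G) ⊓ L with hUdef
  have hU : Cfsg.IsStronglyClosed U (S : Subgroup G) := stronglyClosed_perCent hcp ih hZ hT hT1
  have hTU : T ≤ U := by
    by_contra hnle
    by_cases h0 : T ⊓ U = ⊥
    · have D : CommPair.Pair S T U :=
        ⟨hT, hU, fun a ha b hb => mem_centralizer_iff.1 (per_le _ (mem_inf.1 hb).2) a ha, h0⟩
      have hUC : U ≤ centralizer (M : Set G) := by
        rw [← hN]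
        refine le_centralizer_normalClosure fun u hu z hz => ?_
        have h := hcp G S T U D z u hz (InR.of_mem hu)
        rw [hO, mem_bot] at h
        rw [← commutatorElement_inv, h, inv_one]
      rw [hMc, le_bot_iff] at hUC
      refine hL1 (eq_bot_of_odd (perfect_per _) (Nat.not_even_iff_odd.1 fun he => ?_))
      obtain ⟨x, hxL, hx⟩ := Invol.exists_invol he
      have hb := bnd_perCent hT (zpowers x) (zpowers_le.2 hxL) (isPGroup_zpowers ⟨1, by rw [hx, pow_one]⟩)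
      rw [Nat.card_zpowers, hx, ← hLdef, ← hUdef, hUC, Subgroup.card_bot] at hb
      omega
    · exact hkill (le_centralizer_of_small hO ihT
        ⟨inf_le_left.trans hT.1, fun x hx g hg => mem_inf.2 ⟨hT.2 x (mem_inf.1 hx).1 g hg,
          hU.2 x (mem_inf.1 hx).2 g hg⟩⟩ inf_le_left (fun e => hnle (inf_eq_left.1 e)) h0
        (inf_le_left.trans hTM) hmin)
  have hcomm : ∀ x ∈ T, ∀ z ∈ T, x * z = z * x := fun x hx z hz =>
    mem_centralizer_iff.1 (per_le _ (mem_inf.1 (hTU hz)).2) x hx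
  let Ω : Subgroup G :=
    { carrier := {x | x ∈ T ∧ x * x = 1}
      one_mem' := ⟨one_mem _, one_mul 1⟩
      mul_mem' := fun {a b} ha hb => ⟨mul_mem ha.1 hb.1, by
        rw [(show Commute b a from hcomm b hb.1 a ha.1).mul_mul_mul_comm, ha.2, hb.2, one_mul]⟩
      inv_mem' := fun {a} ha => ⟨inv_mem ha.1, by rw [← mul_inv_rev, ha.2, inv_one]⟩ }
  have hΩ : ∀ x ∈ T, x * x = 1 := by
    by_contra hno
    refine hkill (le_centralizer_of_small hO ihT (T₀ := Ω)
      ⟨fun x hx => hT.1 hx.1, fun x hx g hg => ⟨hT.2 x hx.1 g hg, by rw [conj_mul, hx.2, mul_one, mul_inv_cancel]⟩⟩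
      (fun x hx => hx.1) (fun e => hno fun x hx => (e.ge hx).2) ?_ (fun x hx => hTM hx.1) hmin)
    intro e
    obtain ⟨k, hk⟩ := IsPGroup.iff_card.1 (S.isPGroup'.to_le hT.1)
    have h2 : 2 ∣ Nat.card T := by
      rw [hk]
      refine dvd_pow_self 2 fun e' => hT1 (Subgroup.card_eq_one.1 ?_)
      rw [hk, e', pow_zero]
    obtain ⟨x, hx, hx2⟩ := Invol.exists_invol (even_iff_two_dvd.2 h2)
    exact Invol.ne_one hx2 (mem_bot.1 (e ▸ (⟨hx, Invol.mul_self hx2⟩ : x ∈ Ω)))
  refine hL1 (leaf hC hT (simple_of_top hcp hO hT hMb hmin hMc hN hX) (fun h => ?_) hMc hTM hT1 hcomm hΩ)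
  exact (hmeet M hMn hMb hmin).2 (isPGroup_of_comm hO hMn fun a ha b hb =>
    congrArg Subtype.val (h.is_comm.comm ⟨a, ha⟩ ⟨b, hb⟩))

/-- The theorem in every group. -/
theorem goal (hcp : CommPair.Stmt.{u}) (hC : ClosedAbelianSimple.{u}) (G : Type u) [Group G] [Finite G] :
    Goal G := by
  induction hn : Nat.card G using Nat.strong_induction_on generalizing G with
  | _ n ih =>
  subst hn
  have ih' : Below.{u} (Nat.card G) := fun X _ _ hlt => ih _ hlt X rfl
  haveI : Fact (Nat.Prime 2) := ⟨Nat.prime_two⟩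
  intro S T hT
  induction hm : Nat.card T using Nat.strong_induction_on generalizing T with
  | _ m ihm =>
  intro l hl y hy
  by_cases hO : Cfsg.oddCore G = ⊥
  · rw [commute_of_trivial_core hcp hC hO ih' hT (fun T₀ h0 hlt => ihm _ (hm ▸ hlt) T₀ h0 rfl) hl hy]
    exact one_mem _
  haveI : (Cfsg.oddCore G).Normal := FittingCores.pPrimeCore_normal 2
  have h := quot_mem ih' hT (Cfsg.oddCore G) hO hl hy
  rw [show Cfsg.oddCore (G ⧸ Cfsg.oddCore G) = ⊥ from PBasic.pPrimeCore_quotient_pPrimeCore 2 G, mem_bot] at h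
  exact (QuotientGroup.eq_one_iff _).1 h

/-- The perfect part of the centraliser is normal. -/
theorem normal_perCent (hg : GateCons.Gate.{u}) (hC : ClosedAbelianSimple.{u}) (hO : Cfsg.oddCore G = ⊥)
    (hT : Cfsg.IsStronglyClosed T (S : Subgroup G)) : (per (centralizer (T : Set G))).Normal := by
  set N := normalClosure (T : Set G)
  haveI : N.Normal := normalClosure_normal
  have hle : per (centralizer (T : Set G)) ≤ centralizer (N : Set G) :=
    le_centralizer_normalClosure fun l hl y hy => by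
      have h := goal (CommPair.stmt hg) hC G S T hT l hl y hy
      rwa [hO, mem_bot] at h
  have he : per (centralizer (T : Set G)) = per (centralizer (N : Set G)) :=
    le_antisymm (le_per (perfect_per _) hle) (per_mono (centralizer_le subset_normalClosure))
  rw [he]
  refine normalizer_eq_top_iff.1 (eq_top_iff.2 ?_)
  haveI : (centralizer (N : Set G)).Normal := Subgroup.normal_centralizer
  exact (normalizer_eq_top (H := centralizer (N : Set G))).ge.trans (normalizer_le_per _)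

end Cfsg.Agent.ClosedCent
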